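import Cfsg.Agent.MK.Sp2.Wey_m3
import Cfsg.Agent.MK.A.Six_m3
import Cfsg.Agent.H87.OC.Lower
import Cfsg.Agent.Lib.ListFast
import Cfsg.Agent.MK.S4.ZD
import Cfsg.Agent.MK.S7.Cov
import Cfsg.Agent.MK.Y.CoreI_m3
import Cfsg.Agent.GAL.Spor.HN_m3
import Cfsg.Agent.MK.S5.Mov_m3
import Cfsg.Agent.H456.LD.HN.Tab
import Cfsg.Agent.FastGrp
import Cfsg.Agent.Prune
set_option linter.all false

section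
prune_inst 0x7ffcfffbaff8bfffffff7e7ffffddffdf5fdefffffdffbfbfffdffffcfdf4b6ffbf5fbafffef58fffef6f2beb2f87bd3ffffdfffeffbfd7ffffdfffcdfffffdffffffdad79ffbcbe1ffe7fffffffffee7f3fffffffffffffffffffffffffffffffffffffffff

-- part: MK/U43/Inv
section
prune_inst 0x1000000000000000200020800100000200000000000003020200000000000000082000101000000000008000000000000000000020000200000000000020204000000000000000000001180c00000000000000000000000000000000000000000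
set_option linter.all false
open scoped Cfsg.Agent.FastGrp

/-!
# MK, the triple covers of `U₄(3)`: the diagonal involution inverts the centre (helper11)
-/

set_option autoImplicit false
set_option maxRecDepth 100000
set_option maxHeartbeats 400000

namespace Cfsg.Agent.MK.U43

open Cfsg Subgroup Cfsg.Agent.MK.T Cfsg.Agent.TwoF.XL.U43 Cfsg.Agent.SporadicStructure.PermChain
open scoped commutatorElement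

section abs

variable {X S : Type} [Group X] [Group S]

theorem cls_comm {A : Set S} (h : ∀ a ∈ A, ∀ b ∈ A, a * b = b * a) : ∀ a ∈ closure A, ∀ b ∈ closure A, a * b = b * a := by
  have h1 : closure A ≤ centralizer A := (closure_le _).2 fun a ha => mem_centralizer_iff.2 fun b hb => h b hb a ha
  have h2 : closure A ≤ centralizer (closure A : Set S) :=
    (closure_le _).2 fun a ha => mem_centralizer_iff.2 fun b hb => (mem_centralizer_iff.1 (h1 hb) a ha).symm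
  exact fun a ha b hb => (mem_centralizer_iff.1 (h2 ha) b hb).symm

theorem cls_three {A : Set S} (h : ∀ a ∈ A, ∀ b ∈ A, a * b = b * a) (h3 : ∀ a ∈ A, a ^ 3 = 1) :
    IsPGroup 3 (closure A) := fun ⟨g, hg⟩ => ⟨1, Subtype.ext (by
  show g ^ 3 = 1
  induction hg using closure_induction with
  | mem x hx => exact h3 x hx
  | one => exact one_pow 3
  | mul x y hx hy h1 h2 => rw [Commute.mul_pow (cls_comm h x hx y hy), h1, h2, one_mul]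
  | inv x _ h1 => rw [inv_pow, h1, inv_one])⟩

/-- some element squares `a` and centralises `b` -/
def Dm (a b : S) : Prop := a * b = b * a ∧ ∃ w, w * a = a * a * w ∧ w * b = b * w

variable {φ : X →* S} (h : Cv φ)
include h

theorem Cv.cen {x y : X} (e : φ x = φ y) : ∃ z ∈ center X, x = z * y :=
  ⟨x * y⁻¹, by rw [← h.ker, MonoidHom.mem_ker, map_mul, map_inv, e, mul_inv_cancel], (inv_mul_cancel_right _ _).symm⟩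

theorem Cv.comm_dm {x y : X} (hd : Dm (φ x) (φ y)) : x * y = y * x := by
  obtain ⟨h1, w, h2, h3⟩ := hd
  obtain ⟨w, rfl⟩ := h.surj w
  obtain ⟨c, hc, e⟩ := h.cen (x := x * y) (y := y * x) (by rw [map_mul, map_mul, h1])
  have k := A.det_eq φ h.ker hc e (α := MulAut.conj w) (i := 2) (j := 0) (k := 0) (l := 1)
    (by rw [MulAut.conj_apply, mem_center_iff.1 hc, mul_inv_cancel_right])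
    (by rw [MulAut.conj_apply, map_mul, map_mul, h2, map_inv, mul_inv_cancel_right, pow_zero, mul_one, pow_two])
    (by rw [MulAut.conj_apply, map_mul, map_mul, h3, map_inv, mul_inv_cancel_right, pow_zero, one_mul, pow_one])
  have k' : c = c * c := by simpa only [zero_mul, zero_add, pow_one, mul_one, pow_two] using k
  rw [e, left_eq_mul.1 k', one_mul]

theorem Cv.comm {x y : X} (hd : φ x = φ y ∨ Dm (φ x) (φ y) ∨ Dm (φ y) (φ x)) : x * y = y * x := by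
  rcases hd with e | e | e
  · obtain ⟨z, hz, rfl⟩ := h.cen e
    rw [← mul_assoc, mem_center_iff.1 hz]
  · exact h.comm_dm e
  · exact (h.comm_dm e).symm

theorem Cv.comap (A : Set S) : (closure A).comap φ = closure {x | x ∈ center X ∨ φ x ∈ A} := by
  refine le_antisymm ?_ ((closure_le _).2 fun x hx => hx.elim
    (fun e => show φ x ∈ closure A from (show φ x = 1 from h.ker.ge e) ▸ one_mem _) fun e => subset_closure e)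
  rw [← comap_map_eq_self (f := φ) (H := Subgroup.closure {x | x ∈ center X ∨ φ x ∈ A})
    (h.ker.le.trans fun x hx => Subgroup.subset_closure (Or.inl hx))]
  refine comap_mono ((closure_le _).2 fun a ha => ?_)
  obtain ⟨x, rfl⟩ := h.surj a
  exact mem_map_of_mem φ (subset_closure (Or.inr ha))

/-- **an automorphism which inverts `A` and centralises `B` moves the centre** -/
theorem Cv.not_fix [Finite X] {α : MulAut X} {q : MulAut S} (hq : ∀ x, φ (α x) = q (φ x)) {A B : Set S}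
    (hA : ∀ a ∈ A, ∀ b ∈ A, a = b ∨ Dm a b ∨ Dm b a) (hB : ∀ a ∈ B, ∀ b ∈ B, a = b ∨ Dm a b ∨ Dm b a)
    (h3 : ∀ a ∈ A ∪ B, a ^ 3 = 1) (hn : ∀ b ∈ B, ∀ a ∈ A, b * a * b⁻¹ ∈ closure A)
    (hi : IsPGroup 3 (closure (A ∪ B)) → ¬ 3 ∣ (closure (A ∪ B)).index) (qA : ∀ a ∈ A, q a = a⁻¹)
    (qB : ∀ b ∈ B, q b = b) : ¬ ∀ z ∈ center X, α z = z := fun hα => by
  have : Fact (Nat.Prime 3) := ⟨Nat.prime_three⟩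
  have : Finite S := Finite.of_surjective φ h.surj
  have c0 : ∀ {A : Set S}, (∀ a ∈ A, ∀ b ∈ A, a = b ∨ Dm a b ∨ Dm b a) → ∀ a ∈ A, ∀ b ∈ A, a * b = b * a :=
    fun h a ha b hb => (h a ha b hb).elim (fun e => e ▸ rfl) fun e => e.elim And.left fun e => e.1.symm
  have n1 : closure B ≤ normalizer (closure A : Set S) :=
    (closure_le _).2 fun b hb => mem_normalizer_fintype (HN.PC.conj_closure (hn b hb))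
  have p3 : IsPGroup 3 (closure (A ∪ B)) := by
    rw [Subgroup.closure_union]
    exact (cls_three (c0 hA) fun a ha => h3 a (Or.inl ha)).to_sup_of_normal_left'
      (cls_three (c0 hB) fun a ha => h3 a (Or.inr ha)) n1
  have cA : ∀ a ∈ (closure A).comap φ, ∀ b ∈ (closure A).comap φ, a * b = b * a := by
    rw [h.comap]
    refine cls_comm ?_
    rintro a (ha | ha) b hb
    · exact (mem_center_iff.1 ha b).symm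
    · exact hb.elim (fun hb => mem_center_iff.1 hb a) fun hb => h.comm (hA _ ha _ hb)
  let N : Subgroup X :=
    { carrier := {r | r ∈ (closure A).comap φ ∧ α r = r⁻¹}
      one_mem' := ⟨one_mem _, by rw [map_one, inv_one]⟩
      mul_mem' := fun {a b} ha hb => ⟨mul_mem ha.1 hb.1, by
        rw [map_mul, ha.2, hb.2, cA a ha.1 b hb.1, mul_inv_rev]⟩
      inv_mem' := fun {a} ha => ⟨inv_mem ha.1, by rw [map_inv, ha.2]⟩ }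
  have cz : ∀ {z : X}, z ∈ center X → ∀ a b, z * a * b * (z * a)⁻¹ = a * b * a⁻¹ := fun hz a b => by
    rw [← mem_center_iff.1 hz, mul_assoc a, ← mem_center_iff.1 hz]
    group
  have nB : ∀ b, φ b ∈ B → ∀ r ∈ (closure A).comap φ, b * r * b⁻¹ ∈ (closure A).comap φ := fun b hb r hr => by
    rw [mem_comap, map_mul, map_mul, map_inv]
    exact (mem_normalizer_iff.1 (n1 (subset_closure hb)) _).1 hr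
  have aB : ∀ b, φ b ∈ B → ∀ r, α (b * r * b⁻¹) = b * α r * b⁻¹ := fun b hb r => by
    obtain ⟨z, hz, e⟩ := h.cen ((hq b).trans (qB _ hb))
    rw [map_mul, map_mul, map_inv, e, cz hz]
  have k1 : {x | x ∈ center X ∨ φ x ∈ A ∪ B} ⊆ normalizer (N : Set X) := by
    rintro g (hg | hg | hg) <;> refine mem_normalizer_fintype fun r hr => ?_
    · rwa [← mem_center_iff.1 hg, mul_inv_cancel_right]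
    · rwa [cA g (subset_closure hg) r hr.1, mul_inv_cancel_right]
    · exact ⟨nB g hg r hr.1, by rw [aB g hg, hr.2, conj_inv]⟩
  have k2 : ∀ b a, φ b ∈ B → φ a ∈ A → ⁅b, a⁆ ∈ N := fun b a hb ha => by
    have ha' : a ∈ (closure A).comap φ := subset_closure ha
    obtain ⟨z, hz, e⟩ := h.cen (((hq a).trans (qA _ ha)).trans (map_inv φ a).symm)
    refine ⟨mul_mem (nB b hb a ha') (inv_mem ha'), ?_⟩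
    rw [commutatorElement_def, map_mul, aB b hb, map_inv, e, mul_inv_rev (_ * _ * _), inv_inv,
      cA a ha' _ (inv_mem (nB b hb a ha')), ← mem_center_iff.1 hz, mul_inv_rev, ← mul_assoc b, mul_assoc _ z,
      ← mem_center_iff.1 hz]
    group
  have k3 := H87.OC.commutator_closure_le k1 k1 (by
    have k : ∀ {a b : X}, a * b = b * a → ⁅a, b⁆ ∈ N := fun e => by
      rw [commutatorElement_eq_one_iff_mul_comm.2 e]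
      exact one_mem N
    rintro a (ha | ha | ha) b hb
    · exact k (mem_center_iff.1 ha b).symm
    · rcases hb with hb | hb | hb
      · exact k (mem_center_iff.1 hb a)
      · exact k (h.comm (hA _ ha _ hb))
      · rw [← commutatorElement_inv]
        exact inv_mem (k2 b a hb ha)
    · rcases hb with hb | hb | hb
      · exact k (mem_center_iff.1 hb a)
      · exact k2 a b ha hb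
      · exact k (h.comm (hB _ ha _ hb)))
  rw [← h.comap] at k3
  obtain ⟨z, hz⟩ : ∃ z : center X, z ≠ 1 :=
    have := Finite.one_lt_card_iff_nontrivial.1 (h.card ▸ (by norm_num : 1 < 3))
    exists_ne 1
  have k6 := OddHalf.LongSL.mem_commutator_of_center ((closure (A ∪ B)).comap φ)
    (p3.comap_of_ker_isPGroup φ (h.ker ▸ IsPGroup.of_card (n := 1) h.card))
    (by rw [index_comap_of_surjective _ h.surj]; exact hi p3)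
    (z := z) (show φ z ∈ Subgroup.closure _ by rw [show φ z = 1 from h.ker.ge z.2]; exact one_mem _) z.2 (h.perf ▸ mem_top _)
  rw [← map_subtype_commutator] at k3
  have k7 : α z = (z : X)⁻¹ := (k3 (mem_map_of_mem _ k6)).2
  have k8 := MK.A.cen_cube h.card z.2
  rw [hα z z.2, eq_inv_iff_mul_eq_one] at k7
  rw [pow_succ, pow_two, k7, one_mul] at k8
  exact hz (Subtype.ext k8)

end abs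

/-- a word in the inner letters -/
def inn (l : List ℕ) : Bool := l.all fun s => Nat.blt s 13

theorem coe_inn {l : List ℕ} (h : inn l = true) : (Wm l : Pm) = W l :=
  coe_Wm fun s hs => Nat.blt_eq.mp (List.all_eq_true.1 h s hs)

theorem rp_app {q : MulAut M} {g a b : List ℕ} (h : Rp q (W g)) (ha : inn a = true) (hb : inn b = true)
    (e : eqF (g ++ a) (b ++ g) = true) : q (Wm a) = Wm b := by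
  have k := W_eq e
  rw [W_append, W_append] at k
  exact Subtype.ext (by rw [h, coe_inn ha, coe_inn hb, k, mul_inv_cancel_right])

theorem rp_conj {q : MulAut M} {g s : List ℕ} (h : Rp q (W g)) (hs : inn s = true) :
    Rp (MulAut.conj (Wm s) * q) (W (s ++ g)) := by
  rw [W_append, ← coe_inn hs]
  exact (Rp.conj _).mul h

/-- products of powers -/
def pws : List (List ℕ) → ℕ → List ℕ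
  | [], _ => []
  | w :: l, e => (bif Nat.beq (e % 3) 0 then [] else bif Nat.beq (e % 3) 1 then w else w ++ w) ++ pws l (e / 3)

theorem pws_mem {H : Subgroup M} : ∀ (l : List (List ℕ)) (e : ℕ), (∀ w ∈ l, Wm w ∈ H) → Wm (pws l e) ∈ H
  | [], _, _ => one_mem H
  | w :: l, e, h => by
    have hw := h w List.mem_cons_self
    rw [pws, Wm_append]
    refine mul_mem ?_ (pws_mem l _ fun v hv => h v (List.mem_cons_of_mem _ hv))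
    cases Nat.beq (e % 3) 0
    · cases Nat.beq (e % 3) 1
      · exact (Wm_append w w).symm ▸ mul_mem hw hw
      · exact hw
    · exact one_mem H

/-- the check of `Dm` -/
def dmB (a b w : List ℕ) : Bool := eqB (a ++ b) (b ++ a) && (eqB (w ++ a) (a ++ a ++ w) && eqB (w ++ b) (b ++ w))

theorem dm_of {a b w : List ℕ} (h : dmB a b w = true) : Dm (Wm a) (Wm b) := by
  simp only [dmB, Bool.and_eq_true, eqB_iff, Wm_append] at h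
  exact ⟨h.1, Wm w, h.2⟩

/-- a basis of `3⁴` -/
def rw4 : List (List ℕ) := [[5], [6, 5, 6], [2, 8, 2, 10, 2, 9], [12, 6, 2, 3, 2, 9]]

/-- generators of a complement in a Sylow `3`-subgroup -/
def tw2 : List (List ℕ) := [[0, 2, 12, 5, 0, 3], [0, 4, 12, 5, 3, 9]]

/-- pairs of words -/
def prs (l ws : List (List ℕ)) : Bool :=
  l.all fun a => l.all fun b => eqB a b || (ws.any (fun w => dmB a b w) || ws.any fun w => dmB b a w)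

theorem prs_spec {l ws : List (List ℕ)} (h : prs l ws = true) :
    ∀ a ∈ Wm '' {w | w ∈ l}, ∀ b ∈ Wm '' {w | w ∈ l}, a = b ∨ Dm a b ∨ Dm b a := by
  rintro _ ⟨a, ha, rfl⟩ _ ⟨b, hb, rfl⟩
  have k := List.all_eq_true.1 (List.all_eq_true.1 h a ha) b hb
  simp only [Bool.or_eq_true, List.any_eq_true] at k
  exact k.imp Wm_eq fun k => k.imp (fun ⟨_, _, e⟩ => dm_of e) fun ⟨_, _, e⟩ => dm_of e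

theorem chkA : prs rw4 [[11, 8, 12], [7, 2, 7]] = true := by decide +kernel
theorem chkB : prs tw2 [[7]] = true := by decide +kernel
theorem chk3 : (rw4 ++ tw2).all (fun a => eqB (a ++ a ++ a) [] && inn a) = true := by decide +kernel
theorem chkN : tw2.all (fun b => rw4.all fun a => [64, 66, 35, 80, 48, 32, 77].any fun e =>
    eqB (b ++ a) (pws rw4 e ++ b)) = true := by decide +kernel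
private noncomputable def _root_.Cfsg.Agent.LsF.fb78301_0 : {f // @Cfsg.Agent.SporadicStructure.PermChain.allBelow = f} := ⟨_, by first | (delta Cfsg.Agent.SporadicStructure.PermChain.allBelow Cfsg.Agent.SporadicStructure.PermChain.allBelow._f Nat.brecOn.go Nat.brecOn; rewrite [Cfsg.Agent.LsF.and_eq]; (try delta Cfsg.Agent.SporadicStructure.PermChain.allBelow.match_1); (try delta Nat.casesOn); first | dsimp -zeta only | exact rfl) | exact rfl⟩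
private noncomputable def _root_.Cfsg.Agent.LsF.fb78301_1 : {f // @Cfsg.Agent.SporadicStructure.PermChain.force = f} := ⟨_, by first | (delta Cfsg.Agent.SporadicStructure.PermChain.force; rewrite [Cfsg.Agent.LsF.nadd_pat]; (try delta Cfsg.Agent.SporadicStructure.PermChain.allBelow.match_1); (try delta Nat.casesOn); exact rfl) | exact rfl⟩
private noncomputable def _root_.Cfsg.Agent.LsF.fb78301_2 : {f // @Cfsg.Agent.SporadicStructure.PermChain.look = f} := ⟨_, by first | (delta Cfsg.Agent.SporadicStructure.PermChain.look; rewrite [Cfsg.Agent.LsF.nmul_pat, Cfsg.Agent.LsF.nmod_pat, Cfsg.Agent.LsF.npow_pat, Cfsg.Agent.LsF.nshr_pat]; exact rfl) | exact rfl⟩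
private noncomputable def _root_.Cfsg.Agent.LsF.fb78301_3 : {f // @Cfsg.Agent.TwoF.XL.U43.ev = f} := ⟨_, by first | (delta Cfsg.Agent.TwoF.XL.U43.ev List.brecOn List.brecOn.go Cfsg.Agent.TwoF.XL.U43.ev._f; rewrite [Cfsg.Agent.LsF.fb78301_1.2, Cfsg.Agent.LsF.fb78301_2.2, Cfsg.Agent.LsF.cond_eq, Cfsg.Agent.LsF.getD_eq]; (try delta Cfsg.Agent.TwoF.XL.U43.ev.match_1); (try delta List.casesOn); first | dsimp -zeta only | exact rfl) | exact rfl⟩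
private noncomputable def _root_.Cfsg.Agent.LsF.fb78301_4 : {f // @Cfsg.Agent.TwoF.XL.U43.eqF = f} := ⟨_, by first | (delta Cfsg.Agent.TwoF.XL.U43.eqF; rewrite [Cfsg.Agent.LsF.fb78301_0.2, Cfsg.Agent.LsF.fb78301_3.2]; exact rfl) | exact rfl⟩
private noncomputable def _root_.Cfsg.Agent.LsF.fb78301_5 : {f // @Cfsg.Agent.MK.U43.inn = f} := ⟨_, by first | (delta Cfsg.Agent.MK.U43.inn; rewrite [Cfsg.Agent.LsF.all_eq]; exact rfl) | exact rfl⟩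
theorem chkqA : rw4.all (fun a => eqF ([11, 9, 6] ++ [13] ++ a) (a ++ a ++ ([11, 9, 6] ++ [13])) && inn (a ++ a)) = true := by
  ((try (rewrite [Cfsg.Agent.LsF.fb78301_4.2, Cfsg.Agent.LsF.fb78301_5.2, Cfsg.Agent.LsF.lappend_pat, Cfsg.Agent.LsF.and_eq, Cfsg.Agent.LsF.all_eq])); decide +kernel)
theorem chkqB : tw2.all (fun a => eqF ([11, 9, 6] ++ [13] ++ a) (a ++ ([11, 9, 6] ++ [13]))) = true := by ((try (rewrite [Cfsg.Agent.LsF.fb78301_4.2, Cfsg.Agent.LsF.lappend_pat, Cfsg.Agent.LsF.all_eq])); decide +kernel)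
private noncomputable def _root_.Cfsg.Agent.LsF.fb78301_6 : {f // @Cfsg.Agent.TwoF.XL.U43.dst = f} := ⟨_, by first | (delta Cfsg.Agent.TwoF.XL.U43.dst Nat.brecOn.go Nat.brecOn Cfsg.Agent.TwoF.XL.U43.dst._f; rewrite [Cfsg.Agent.LsF.fb78301_1.2, Cfsg.Agent.LsF.and_eq, Cfsg.Agent.LsF.not_eq, Cfsg.Agent.LsF.testBit_eq]; (try delta Cfsg.Agent.TwoF.XL.U43.wd.match_1); (try delta Nat.casesOn); first | dsimp -zeta only | exact rfl) | exact rfl⟩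
private noncomputable def _root_.Cfsg.Agent.LsF.fb78301_7 : {f // @Cfsg.Agent.MK.U43.pws = f} := ⟨_, by first | (delta Cfsg.Agent.MK.U43.pws List.brecOn List.brecOn.go Cfsg.Agent.MK.U43.pws._f; rewrite [Cfsg.Agent.LsF.ndiv_pat, Cfsg.Agent.LsF.nmod_pat, Cfsg.Agent.LsF.lappend_pat, Cfsg.Agent.LsF.cond_eq]; (try delta Cfsg.Agent.MK.U43.pws.match_1); (try delta List.casesOn); first | dsimp -zeta only | exact rfl) | exact rfl⟩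
theorem chkD : dst (fun e => 280 * (280 * ev 13 (pws (rw4 ++ tw2) e) 10 + ev 13 (pws (rw4 ++ tw2) e) 88) +
    ev 13 (pws (rw4 ++ tw2) e) 0) 244 0 = true := by ((try (rewrite [Cfsg.Agent.LsF.fb78301_6.2, Cfsg.Agent.LsF.fb78301_3.2, Cfsg.Agent.LsF.fb78301_7.2, Cfsg.Agent.LsF.nadd_pat, Cfsg.Agent.LsF.nmul_pat, Cfsg.Agent.LsF.lappend_pat])); decide +kernel)

/-- **the lifts of the letter `13` move the centre** -/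
theorem not_fix13 {X : Type} [Group X] [Finite X] {φ : X →* M} (h : Cv φ) {α : MulAut X} {q : MulAut M}
    (hq : Rp q (L 13)) (hα : ∀ x, φ (α x) = q (φ x)) : ¬ ∀ z ∈ center X, α z = z := fun hz => by
  obtain ⟨s, hs⟩ := h.surj (Wm [11, 9, 6])
  have hq' := rp_conj (s := [11, 9, 6]) (W_single 13 ▸ hq) rfl
  have k3 : ∀ a ∈ rw4 ++ tw2, Wm a ^ 3 = 1 ∧ inn a = true := fun a ha => by
    have k := List.all_eq_true.1 chk3 a ha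
    rw [Bool.and_eq_true, eqB_iff, Wm_append, Wm_append] at k
    exact ⟨by rw [pow_succ, pow_two]; exact k.1, k.2⟩
  refine h.not_fix (α := MulAut.conj s * α) (q := MulAut.conj (Wm [11, 9, 6]) * q) (fun x => ?_) (prs_spec chkA)
    (prs_spec chkB) ?_ ?_ (fun p3 h3 => ?_) ?_ ?_ fun z hc => ?_
  · rw [MulAut.mul_apply, MulAut.mul_apply, MulAut.conj_apply, MulAut.conj_apply, map_mul, map_mul, map_inv, hs, hα]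
  · rintro _ (⟨a, ha, rfl⟩ | ⟨a, ha, rfl⟩)
    · exact (k3 a (List.mem_append_left _ ha)).1
    · exact (k3 a (List.mem_append_right _ ha)).1
  · rintro _ ⟨b, hb, rfl⟩ _ ⟨a, ha, rfl⟩
    obtain ⟨e, -, k⟩ := List.any_eq_true.1 (List.all_eq_true.1 (List.all_eq_true.1 chkN b hb) a ha)
    rw [eqB_iff, Wm_append, Wm_append] at k
    rw [k, mul_inv_cancel_right]
    exact pws_mem _ _ fun w hw => subset_closure ⟨w, hw, rfl⟩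
  · obtain ⟨n, hn⟩ := p3.exists_card_eq
    have k1 : 244 ≤ 3 ^ n := by
      rw [← hn, ← Nat.card_fin 244]
      refine Nat.card_le_card_of_injective (fun e : Fin 244 => ⟨Wm (pws (rw4 ++ tw2) e), pws_mem _ _ fun w hw =>
        subset_closure ((List.mem_append.1 hw).imp (fun k => ⟨w, k, rfl⟩) fun k => ⟨w, k, rfl⟩)⟩) fun e f k => ?_
      have k2 := eqB_iff.2 (congrArg Subtype.val k)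
      simp only [eqB, Bool.and_eq_true, Nat.beq_eq] at k2
      exact Fin.ext ((dst_spec _ _ _ chkD).2 e e.2 f f.2 (by rw [k2.1, k2.2.1, k2.2.2]))
    have k2 : 3 ^ 5 < 3 ^ n := lt_of_lt_of_le (by norm_num) k1
    have k4 := mul_dvd_mul h3 (pow_dvd_pow 3 ((Nat.pow_lt_pow_iff_right (by norm_num)).1 k2) : 3 ^ 6 ∣ 3 ^ n)
    rw [← hn, index_mul_card, card_M] at k4
    norm_num at k4
  · rintro _ ⟨a, ha, rfl⟩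
    have k := List.all_eq_true.1 chkqA a ha
    rw [Bool.and_eq_true] at k
    have k4 := k3 a (List.mem_append_left _ ha)
    rw [rp_app hq' k4.2 k.2 k.1, Wm_append, eq_inv_iff_mul_eq_one, ← k4.1, pow_succ, pow_two]
  · rintro _ ⟨a, ha, rfl⟩
    have k4 := (k3 a (List.mem_append_right _ ha)).2
    exact rp_app hq' k4 k4 (List.all_eq_true.1 chkqB a ha)
  · rw [MulAut.mul_apply, hz z hc, MulAut.conj_apply, mem_center_iff.1 hc, mul_inv_cancel_right]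

end Cfsg.Agent.MK.U43

private theorem dce_c341e6a474e5 : _root_.True := by
  try have : _root_.True := by simp only [_root_.Cfsg.Agent.MK.U43.dmB.eq_1]
  try have : _root_.True := by simp only [_root_.Cfsg.Agent.MK.U43.pws.eq_1]
  try have : _root_.True := by simp only [_root_.Cfsg.Agent.MK.U43.pws.eq_def]
  try have : _root_.True := by simp only [_root_.Cfsg.Agent.MK.U43.pws.eq_2]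
  exact _root_.True.intro
end

-- part: MK/S4/ZE
section
prune_inst 0x300045007400000000180000220020a02100000000400000200003020b490040a04100010a70000090d414c07842c000020001004000000020003200000200000025286004341e00180000000001180c00000000000000000000000000000000000000000
set_option linter.all false
open scoped Cfsg.Agent.FastGrp
private noncomputable def lq26d4b3e7c8 {T : Sort _} (f :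
    type_of% (@_root_.List.cons.{0} (Int)) →
    type_of% (@_root_.List.cons.{0}) →
    type_of% (@_root_.Prod.mk.{0, 0}) →
    type_of% (@_root_.List.nil.{0}) →
    type_of% (@_root_.List.cons.{0} (List (Prod Int Nat))) →
    type_of% (@_root_.List.cons.{0} (List Int)) →
    type_of% (@_root_.Cfsg.Agent.TAB.Eng.frcLZ) →
    type_of% (@_root_.Cfsg.Agent.TAB.Eng.nth) →
    type_of% (@_root_.Cfsg.Agent.TAB.Eng.allL) →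
    type_of% (@_root_.Decidable.decide) →
    type_of% (@_root_.List.range) → T) : T :=
  f (@_root_.List.cons.{0} (Int)) (@_root_.List.cons.{0}) (@_root_.Prod.mk.{0, 0}) (@_root_.List.nil.{0}) (@_root_.List.cons.{0} (List (Prod Int Nat))) (@_root_.List.cons.{0} (List Int)) (@_root_.Cfsg.Agent.TAB.Eng.frcLZ) (@_root_.Cfsg.Agent.TAB.Eng.nth) (@_root_.Cfsg.Agent.TAB.Eng.allL) (@_root_.Decidable.decide) (@_root_.List.range)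

/-!
# MK, `3.Suz` : the faithful rows, data and checks (helper88)
-/

set_option autoImplicit false
set_option maxRecDepth 100000
set_option Elab.async false

namespace Cfsg.Agent.MK.S4.Z

open Cfsg Finset Cfsg.Agent.TAB.Eng Cfsg.Agent.TAB.Sz

section data

local notation "Q" => Int.ofNat
local notation "W" => Int.negSucc

/-- the coefficients of a seed -/
def cfa : List (List (ℤ × ℕ)) := (beta% delta% lq26d4b3e7c8 fun _ f g h i _ _ _ _ _ _ =>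
 (let e:=(let e:=(let e:=(i (f (g (W 4) 0)<|f (g (Q 1) 1)<|f (g (Q 2) 2)<|f (g (Q 10) 3)<|f (g (Q 4) 5)<|f (g (W 3) 6)<|f (g (W 0) 8)<|f (g (Q 2) 9)<|f (g (W 1) 10)<|f (g (W 4) 11)<|f (g (W 1) 12)<|
 f (g (Q 1) 13)<|f (g (W 0) 14)<|f (g (Q 4) 15)<|f (g (Q 5) 16)<|f (g (W 0) 17)<|f (g (W 0) 18)<|f (g (Q 1) 19)<|f (g (Q 2) 21)<|f (g (W 2) 22)<|f (g (Q 1) 23)<|f (g (W 2)
 24)<|f (g (Q 1) 27)<|h)<|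
 i (f (g (Q 271) 0)<|f (g (W 13) 1)<|f (g (W 53) 2)<|f (g (W 479) 3)<|f (g (Q 33) 4)<|f (g (W 266) 5)<|f (g (Q 223) 6)<|f (g (Q 66) 7)<|f (g (Q 58) 8)<|f (g (W 109) 9)<|
 f (g (Q 37) 10)<|f (g (Q 250) 11)<|f (g (Q 89) 12)<|f (g (W 43) 13)<|f (g (Q 41) 14)<|f (g (W 155) 15)<|f (g (W 266) 16)<|f (g (Q 58) 17)<|f (g (Q 60) 18)<|
 f (g (Q 15) 19)<|f (g (W 84) 21)<|f (g (Q 112) 22)<|f (g (W 73) 23)<|f (g (Q 155) 24)<|f (g (W 43) 27)<|f (g (W 9) 28)<|f (g (W 19) 31)<|h)<|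
 i (f (g (Q 330) 0)<|f (g (W 10) 1)<|f (g (W 64) 2)<|f (g (W 580) 3)<|f (g (Q 42) 4)<|f (g (W 323) 5)<|f (g (Q 272) 6)<|f (g (Q 81) 7)<|f (g (Q 69) 8)<|f (g (W 133) 9)<|
 f (g (Q 44) 10)<|f (g (Q 301) 11)<|f (g (Q 110) 12)<|f (g (W 53) 13)<|f (g (Q 51) 14)<|f (g (W 186) 15)<|f (g (W 323) 16)<|f (g (Q 70) 17)<|f (g (Q 72) 18)<|
 f (g (Q 18) 19)<|f (g (W 101) 21)<|f (g (Q 134) 22)<|f (g (W 89) 23)<|f (g (Q 188) 24)<|f (g (W 52) 27)<|f (g (W 11) 28)<|f (g (W 23) 31)<|h)<|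
 i (f (g (Q 101) 0)<|f (g (W 1) 1)<|f (g (W 17) 2)<|f (g (W 177) 3)<|f (g (Q 12) 4)<|f (g (W 97) 5)<|f (g (Q 83) 6)<|f (g (Q 24) 7)<|f (g (Q 22) 8)<|f (g (W 40) 9)<|
 f (g (Q 12) 10)<|f (g (Q 92) 11)<|f (g (Q 34) 12)<|f (g (W 14) 13)<|f (g (Q 15) 14)<|f (g (W 55) 15)<|f (g (W 99) 16)<|f (g (Q 21) 17)<|f (g (Q 22) 18)<|f (g (Q 6)
 19)<|f (g (W 31) 21)<|f (g (Q 40) 22)<|f (g (W 28) 23)<|f (g (Q 58) 24)<|f (g (Q 1) 26)<|f (g (W 14) 27)<|f (g (W 3) 28)<|f (g (W 6) 31)<|h)<|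
 i (f (g (Q 190) 0)<|f (g (W 13) 1)<|f (g (W 35) 2)<|f (g (W 343) 3)<|f (g (Q 19) 4)<|f (g (W 189) 5)<|f (g (Q 158) 6)<|f (g (Q 47) 7)<|f (g (Q 42) 8)<|f (g (W 77) 9)<|
 f (g (Q 26) 10)<|f (g (Q 180) 11)<|f (g (Q 62) 12)<|f (g (W 29) 13)<|f (g (Q 27) 14)<|f (g (W 110) 15)<|f (g (W 189) 16)<|f (g (Q 41) 17)<|f (g (Q 42) 18)<|
 f (g (Q 12) 19)<|f (g (W 60) 21)<|f (g (Q 79) 22)<|f (g (W 52) 23)<|f (g (Q 110) 24)<|f (g (W 29) 27)<|f (g (W 7) 28)<|f (g (Q 1) 29)<|f (g (W 15) 31)<|h)<|h);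
 (i (f (g (W 41) 0)<|f (g (Q 3) 1)<|f (g (Q 9) 2)<|f (g (Q 75) 3)<|f (g (W 3) 4)<|f (g (Q 40) 5)<|f (g (W 32) 6)<|f (g (W 9) 7)<|f (g (W 7) 8)<|f (g (Q 17) 9)<|f (g (W 6) 10)<|
 f (g (W 38) 11)<|f (g (W 13) 12)<|f (g (Q 7) 13)<|f (g (W 5) 14)<|f (g (Q 25) 15)<|f (g (Q 41) 16)<|f (g (W 7) 17)<|f (g (W 8) 18)<|f (g (W 0) 19)<|f (g (Q 13) 21)<|
 f (g (W 17) 22)<|f (g (Q 11) 23)<|f (g (W 23) 24)<|f (g (Q 7) 27)<|f (g (Q 1) 28)<|f (g (Q 3) 31)<|h)<|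
 i (f (g (Q 190) 0)<|f (g (W 10) 1)<|f (g (W 37) 2)<|f (g (W 340) 3)<|f (g (Q 21) 4)<|f (g (W 187) 5)<|f (g (Q 157) 6)<|f (g (Q 48) 7)<|f (g (Q 40) 8)<|f (g (W 77) 9)<|
 f (g (Q 27) 10)<|f (g (Q 177) 11)<|f (g (Q 63) 12)<|f (g (W 30) 13)<|f (g (Q 28) 14)<|f (g (W 110) 15)<|f (g (W 188) 16)<|f (g (Q 40) 17)<|f (g (Q 42) 18)<|
 f (g (Q 10) 19)<|f (g (W 59) 21)<|f (g (Q 80) 22)<|f (g (W 51) 23)<|f (g (Q 110) 24)<|f (g (W 30) 27)<|f (g (W 6) 28)<|f (g (W 14) 31)<|h)<|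
 i (f (g (Q 45) 0)<|f (g (W 3) 1)<|f (g (W 7) 2)<|f (g (W 83) 3)<|f (g (Q 3) 4)<|f (g (W 44) 5)<|f (g (Q 38) 6)<|f (g (Q 11) 7)<|f (g (Q 10) 8)<|f (g (W 18) 9)<|f (g (Q 6)
 10)<|f (g (Q 44) 11)<|f (g (Q 15) 12)<|f (g (W 6) 13)<|f (g (Q 6) 14)<|f (g (W 26) 15)<|f (g (W 46) 16)<|f (g (Q 10) 17)<|f (g (Q 10) 18)<|f (g (Q 3) 19)<|f (g (W 14)
 21)<|f (g (Q 20) 22)<|f (g (W 12) 23)<|f (g (Q 27) 24)<|f (g (W 6) 27)<|f (g (W 1) 28)<|f (g (W 3) 31)<|h)<|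
 i (f (g (Q 159) 0)<|f (g (W 7) 1)<|f (g (W 31) 2)<|f (g (W 282) 3)<|f (g (Q 19) 4)<|f (g (W 157) 5)<|f (g (Q 132) 6)<|f (g (Q 40) 7)<|f (g (Q 34) 8)<|f (g (W 64) 9)<|
 f (g (Q 22) 10)<|f (g (Q 147) 11)<|f (g (Q 53) 12)<|f (g (W 25) 13)<|f (g (Q 24) 14)<|f (g (W 91) 15)<|f (g (W 156) 16)<|f (g (Q 34) 17)<|f (g (Q 35) 18)<|f (g (Q 9)
 19)<|f (g (W 49) 21)<|f (g (Q 66) 22)<|f (g (W 42) 23)<|f (g (Q 91) 24)<|f (g (W 25) 27)<|f (g (W 5) 28)<|f (g (W 11) 31)<|h)<|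
 e));
 (let e:=(i (f (g (Q 14) 0)<|f (g (Q 1) 1)<|f (g (W 1) 2)<|f (g (W 23) 3)<|f (g (Q 2) 4)<|f (g (W 13) 5)<|f (g (Q 12) 6)<|f (g (Q 4) 7)<|f (g (Q 3) 8)<|f (g (W 5) 9)<|f (g (Q 1) 10)<|
 f (g (Q 12) 11)<|f (g (Q 5) 12)<|f (g (W 1) 13)<|f (g (Q 2) 14)<|f (g (W 6) 15)<|f (g (W 13) 16)<|f (g (Q 3) 17)<|f (g (Q 3) 18)<|f (g (Q 2) 19)<|f (g (W 3) 21)<|
 f (g (Q 5) 22)<|f (g (W 3) 23)<|f (g (Q 8) 24)<|f (g (W 1) 27)<|f (g (W 0) 28)<|f (g (W 0) 31)<|h)<|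
 i (f (g (Q 104) 0)<|f (g (W 3) 1)<|f (g (W 20) 2)<|f (g (W 180) 3)<|f (g (Q 14) 4)<|f (g (W 101) 5)<|f (g (Q 85) 6)<|f (g (Q 26) 7)<|f (g (Q 22) 8)<|f (g (W 41) 9)<|
 f (g (Q 14) 10)<|f (g (Q 95) 11)<|f (g (Q 34) 12)<|f (g (W 16) 13)<|f (g (Q 16) 14)<|f (g (W 58) 15)<|f (g (W 100) 16)<|f (g (Q 22) 17)<|f (g (Q 23) 18)<|f (g (Q 6)
 19)<|f (g (W 31) 21)<|f (g (Q 42) 22)<|f (g (W 27) 23)<|f (g (Q 59) 24)<|f (g (W 16) 27)<|f (g (W 3) 28)<|f (g (W 6) 31)<|h)<|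
 i (f (g (W 153) 0)<|f (g (Q 8) 1)<|f (g (Q 30) 2)<|f (g (Q 275) 3)<|f (g (W 17) 4)<|f (g (Q 153) 5)<|f (g (W 127) 6)<|f (g (W 38) 7)<|f (g (W 32) 8)<|f (g (Q 63) 9)<|
 f (g (W 20) 10)<|f (g (W 142) 11)<|f (g (W 50) 12)<|f (g (Q 25) 13)<|f (g (W 22) 14)<|f (g (Q 89) 15)<|f (g (Q 153) 16)<|f (g (W 32) 17)<|f (g (W 33) 18)<|f (g (W 8)
 19)<|f (g (Q 49) 21)<|f (g (W 63) 22)<|f (g (Q 42) 23)<|f (g (W 88) 24)<|f (g (Q 25) 27)<|f (g (Q 6) 28)<|f (g (Q 12) 31)<|h)<|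
 i (f (g (W 167) 0)<|f (g (Q 5) 1)<|f (g (Q 33) 2)<|f (g (Q 295) 3)<|f (g (W 21) 4)<|f (g (Q 165) 5)<|f (g (W 138) 6)<|f (g (W 41) 7)<|f (g (W 35) 8)<|f (g (Q 68) 9)<|
 f (g (W 21) 10)<|f (g (W 152) 11)<|f (g (W 55) 12)<|f (g (Q 27) 13)<|f (g (W 25) 14)<|f (g (Q 95) 15)<|f (g (Q 165) 16)<|f (g (W 35) 17)<|f (g (W 36) 18)<|f (g (W 9)
 19)<|f (g (Q 52) 21)<|f (g (W 67) 22)<|f (g (Q 46) 23)<|f (g (W 94) 24)<|f (g (Q 27) 27)<|f (g (Q 6) 28)<|f (g (Q 12) 31)<|h)<|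
 i (f (g (Q 27) 0)<|f (g (W 1) 1)<|f (g (W 4) 2)<|f (g (W 50) 3)<|f (g (Q 3) 4)<|f (g (W 29) 5)<|f (g (Q 25) 6)<|f (g (Q 9) 7)<|f (g (Q 7) 8)<|f (g (W 11) 9)<|f (g (Q 3) 10)<|
 f (g (Q 27) 11)<|f (g (Q 9) 12)<|f (g (W 3) 13)<|f (g (Q 4) 14)<|f (g (W 15) 15)<|f (g (W 27) 16)<|f (g (Q 7) 17)<|f (g (Q 6) 18)<|f (g (Q 4) 19)<|f (g (W 8) 21)<|
 f (g (Q 11) 22)<|f (g (W 7) 23)<|f (g (Q 16) 24)<|f (g (W 3) 27)<|f (g (W 1) 28)<|f (g (W 2) 31)<|h)<|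
 e);
 (i (f (g (Q 136) 0)<|f (g (W 4) 1)<|f (g (W 26) 2)<|f (g (W 238) 3)<|f (g (Q 18) 4)<|f (g (W 133) 5)<|f (g (Q 112) 6)<|f (g (Q 34) 7)<|f (g (Q 29) 8)<|f (g (W 54) 9)<|
 f (g (Q 18) 10)<|f (g (Q 124) 11)<|f (g (Q 45) 12)<|f (g (W 21) 13)<|f (g (Q 21) 14)<|f (g (W 76) 15)<|f (g (W 132) 16)<|f (g (Q 29) 17)<|f (g (Q 30) 18)<|f (g (Q 8)
 19)<|f (g (W 41) 21)<|f (g (Q 55) 22)<|f (g (W 36) 23)<|f (g (Q 77) 24)<|f (g (W 21) 27)<|f (g (W 4) 28)<|f (g (W 9) 31)<|h)<|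
 i (f (g (Q 246) 0)<|f (g (W 12) 1)<|f (g (W 48) 2)<|f (g (W 434) 3)<|f (g (Q 29) 4)<|f (g (W 240) 5)<|f (g (Q 201) 6)<|f (g (Q 60) 7)<|f (g (Q 52) 8)<|f (g (W 99) 9)<|
 f (g (Q 34) 10)<|f (g (Q 227) 11)<|f (g (Q 81) 12)<|f (g (W 39) 13)<|f (g (Q 37) 14)<|f (g (W 141) 15)<|f (g (W 241) 16)<|f (g (Q 52) 17)<|f (g (Q 54) 18)<|
 f (g (Q 13) 19)<|f (g (W 76) 21)<|f (g (Q 102) 22)<|f (g (W 66) 23)<|f (g (Q 141) 24)<|f (g (W 39) 27)<|f (g (W 8) 28)<|f (g (W 17) 31)<|h)<|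
 i (f (g (W 153) 0)<|f (g (Q 5) 1)<|f (g (Q 31) 2)<|f (g (Q 272) 3)<|f (g (W 19) 4)<|f (g (Q 152) 5)<|f (g (W 127) 6)<|f (g (W 37) 7)<|f (g (W 32) 8)<|f (g (Q 63) 9)<|
 f (g (W 20) 10)<|f (g (W 139) 11)<|f (g (W 51) 12)<|f (g (Q 25) 13)<|f (g (W 23) 14)<|f (g (Q 88) 15)<|f (g (Q 151) 16)<|f (g (W 32) 17)<|f (g (W 33) 18)<|f (g (W 7)
 19)<|f (g (Q 48) 21)<|f (g (W 62) 22)<|f (g (Q 42) 23)<|f (g (W 86) 24)<|f (g (Q 25) 27)<|f (g (Q 5) 28)<|f (g (Q 11) 31)<|h)<|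
 i (f (g (Q 42) 0)<|f (g (W 3) 1)<|f (g (W 8) 2)<|f (g (W 76) 3)<|f (g (Q 3) 4)<|f (g (W 38) 5)<|f (g (Q 33) 6)<|f (g (Q 9) 7)<|f (g (Q 8) 8)<|f (g (W 16) 9)<|f (g (Q 8) 10)<|
 f (g (Q 40) 11)<|f (g (Q 14) 12)<|f (g (W 6) 13)<|f (g (Q 6) 14)<|f (g (W 25) 15)<|f (g (W 41) 16)<|f (g (Q 8) 17)<|f (g (Q 9) 18)<|f (g (W 13) 21)<|f (g (Q 19) 22)<|
 f (g (W 10) 23)<|f (g (Q 25) 24)<|f (g (W 6) 27)<|f (g (W 0) 28)<|f (g (W 2) 31)<|h)<|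
 e)));
 (let e:=(let e:=(i (f (g (Q 1) 0)<|f (g (Q 3) 1)<|f (g (W 0) 2)<|f (g (Q 2) 3)<|f (g (Q 2) 4)<|f (g (Q 1) 5)<|f (g (W 0) 7)<|f (g (Q 1) 8)<|f (g (W 1) 11)<|f (g (Q 1) 12)<|f (g (Q 1) 14)<|
 f (g (Q 1) 15)<|f (g (Q 1) 16)<|f (g (W 0) 19)<|f (g (W 0) 22)<|f (g (W 0) 24)<|f (g (Q 1) 28)<|f (g (Q 1) 31)<|h)<|
 i (f (g (W 29) 0)<|f (g (Q 1) 1)<|f (g (Q 6) 2)<|f (g (Q 52) 3)<|f (g (W 3) 4)<|f (g (Q 29) 5)<|f (g (W 23) 6)<|f (g (W 6) 7)<|f (g (W 5) 8)<|f (g (Q 12) 9)<|f (g (W 3) 10)<|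
 f (g (W 26) 11)<|f (g (W 9) 12)<|f (g (Q 5) 13)<|f (g (W 4) 14)<|f (g (Q 17) 15)<|f (g (Q 29) 16)<|f (g (W 5) 17)<|f (g (W 6) 18)<|f (g (W 0) 19)<|f (g (Q 9) 21)<|
 f (g (W 11) 22)<|f (g (Q 8) 23)<|f (g (W 16) 24)<|f (g (Q 5) 27)<|f (g (Q 1) 28)<|f (g (Q 2) 31)<|h)<|
 i (f (g (W 157) 0)<|f (g (Q 11) 1)<|f (g (Q 32) 2)<|f (g (Q 283) 3)<|f (g (W 16) 4)<|f (g (Q 155) 5)<|f (g (W 128) 6)<|f (g (W 39) 7)<|f (g (W 32) 8)<|f (g (Q 65) 9)<|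
 f (g (W 22) 10)<|f (g (W 147) 11)<|f (g (W 51) 12)<|f (g (Q 26) 13)<|f (g (W 22) 14)<|f (g (Q 93) 15)<|f (g (Q 157) 16)<|f (g (W 32) 17)<|f (g (W 34) 18)<|f (g (W 7)
 19)<|f (g (Q 50) 21)<|f (g (W 66) 22)<|f (g (Q 43) 23)<|f (g (W 91) 24)<|f (g (Q 26) 27)<|f (g (Q 6) 28)<|f (g (Q 12) 31)<|h)<|
 i (f (g (Q 63) 0)<|f (g (W 0) 1)<|f (g (W 11) 2)<|f (g (W 108) 3)<|f (g (Q 9) 4)<|f (g (W 60) 5)<|f (g (Q 51) 6)<|f (g (Q 15) 7)<|f (g (Q 13) 8)<|f (g (W 24) 9)<|f (g (Q 8)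
 10)<|f (g (Q 56) 11)<|f (g (Q 21) 12)<|f (g (W 9) 13)<|f (g (Q 10) 14)<|f (g (W 34) 15)<|f (g (W 60) 16)<|f (g (Q 13) 17)<|f (g (Q 14) 18)<|f (g (Q 3) 19)<|
 f (g (W 18) 21)<|f (g (Q 25) 22)<|f (g (W 16) 23)<|f (g (Q 35) 24)<|f (g (W 9) 27)<|f (g (W 1) 28)<|f (g (W 3) 31)<|h)<|
 i (f (g (W 391) 0)<|f (g (Q 17) 1)<|f (g (Q 78) 2)<|f (g (Q 690) 3)<|f (g (W 49) 4)<|f (g (Q 385) 5)<|f (g (W 321) 6)<|f (g (W 95) 7)<|f (g (W 83) 8)<|f (g (Q 159) 9)<|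
 f (g (W 52) 10)<|f (g (W 358) 11)<|f (g (W 128) 12)<|f (g (Q 63) 13)<|f (g (W 59) 14)<|f (g (Q 224) 15)<|f (g (Q 385) 16)<|f (g (W 82) 17)<|f (g (W 86) 18)<|
 f (g (W 21) 19)<|f (g (Q 122) 21)<|f (g (W 160) 22)<|f (g (Q 107) 23)<|f (g (W 222) 24)<|f (g (Q 64) 27)<|f (g (Q 14) 28)<|f (g (Q 28) 31)<|h)<|
 e);
 (i (f (g (W 105) 0)<|f (g (Q 4) 1)<|f (g (Q 21) 2)<|f (g (Q 187) 3)<|f (g (W 13) 4)<|f (g (Q 106) 5)<|f (g (W 87) 6)<|f (g (W 26) 7)<|f (g (W 22) 8)<|f (g (Q 43) 9)<|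
 f (g (W 13) 10)<|f (g (W 96) 11)<|f (g (W 34) 12)<|f (g (Q 17) 13)<|f (g (W 15) 14)<|f (g (Q 60) 15)<|f (g (Q 104) 16)<|f (g (W 22) 17)<|f (g (W 22) 18)<|f (g (W 6)
 19)<|f (g (Q 33) 21)<|f (g (W 42) 22)<|f (g (Q 29) 23)<|f (g (W 59) 24)<|f (g (Q 17) 27)<|f (g (Q 4) 28)<|f (g (Q 8) 31)<|h)<|
 i (f (g (Q 241) 0)<|f (g (W 9) 1)<|f (g (W 47) 2)<|f (g (W 424) 3)<|f (g (Q 31) 4)<|f (g (W 239) 5)<|f (g (Q 200) 6)<|f (g (Q 61) 7)<|f (g (Q 52) 8)<|f (g (W 97) 9)<|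
 f (g (Q 32) 10)<|f (g (Q 221) 11)<|f (g (Q 80) 12)<|f (g (W 38) 13)<|f (g (Q 37) 14)<|f (g (W 136) 15)<|f (g (W 236) 16)<|f (g (Q 52) 17)<|f (g (Q 53) 18)<|
 f (g (Q 15) 19)<|f (g (W 74) 21)<|f (g (Q 98) 22)<|f (g (W 65) 23)<|f (g (Q 137) 24)<|f (g (W 38) 27)<|f (g (W 8) 28)<|f (g (W 17) 31)<|h)<|
 i (f (g (Q 160) 0)<|f (g (W 7) 1)<|f (g (W 29) 2)<|f (g (W 285) 3)<|f (g (Q 17) 4)<|f (g (W 158) 5)<|f (g (Q 132) 6)<|f (g (Q 41) 7)<|f (g (Q 32) 8)<|f (g (W 65) 9)<|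
 f (g (Q 21) 10)<|f (g (Q 149) 11)<|f (g (Q 53) 12)<|f (g (W 25) 13)<|f (g (Q 23) 14)<|f (g (W 91) 15)<|f (g (W 159) 16)<|f (g (Q 34) 17)<|f (g (Q 35) 18)<|f (g (Q 9)
 19)<|f (g (W 49) 21)<|f (g (Q 67) 22)<|f (g (W 43) 23)<|f (g (Q 94) 24)<|f (g (W 25) 27)<|f (g (W 6) 28)<|f (g (W 12) 31)<|h)<|
 i (f (g (Q 1) 2)<|h)<|
 e));
 (let e:=(i (f (g (W 135) 0)<|f (g (Q 5) 1)<|f (g (Q 27) 2)<|f (g (Q 239) 3)<|f (g (W 16) 4)<|f (g (Q 134) 5)<|f (g (W 111) 6)<|f (g (W 33) 7)<|f (g (W 28) 8)<|f (g (Q 55) 9)<|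
 f (g (W 17) 10)<|f (g (W 123) 11)<|f (g (W 44) 12)<|f (g (Q 22) 13)<|f (g (W 20) 14)<|f (g (Q 77) 15)<|f (g (Q 133) 16)<|f (g (W 28) 17)<|f (g (W 29) 18)<|f (g (W 7)
 19)<|f (g (Q 42) 21)<|f (g (W 54) 22)<|f (g (Q 37) 23)<|f (g (W 76) 24)<|f (g (Q 22) 27)<|f (g (Q 5) 28)<|f (g (Q 10) 31)<|h)<|
 i h<|
 i (f (g (W 245) 0)<|f (g (Q 13) 1)<|f (g (Q 49) 2)<|f (g (Q 435) 3)<|f (g (W 29) 4)<|f (g (Q 241) 5)<|f (g (W 200) 6)<|f (g (W 59) 7)<|f (g (W 51) 8)<|f (g (Q 100) 9)<|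
 f (g (W 33) 10)<|f (g (W 226) 11)<|f (g (W 80) 12)<|f (g (Q 40) 13)<|f (g (W 36) 14)<|f (g (Q 142) 15)<|f (g (Q 242) 16)<|f (g (W 51) 17)<|f (g (W 53) 18)<|
 f (g (W 12) 19)<|f (g (Q 77) 21)<|f (g (W 101) 22)<|f (g (Q 67) 23)<|f (g (W 140) 24)<|f (g (Q 40) 27)<|f (g (Q 9) 28)<|f (g (Q 18) 31)<|h)<|
 i (f (g (Q 63) 0)<|f (g (W 1) 1)<|f (g (W 11) 2)<|f (g (W 107) 3)<|f (g (Q 9) 4)<|f (g (W 60) 5)<|f (g (Q 51) 6)<|f (g (Q 15) 7)<|f (g (Q 13) 8)<|f (g (W 24) 9)<|f (g (Q 8)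
 10)<|f (g (Q 56) 11)<|f (g (Q 21) 12)<|f (g (W 9) 13)<|f (g (Q 10) 14)<|f (g (W 34) 15)<|f (g (W 60) 16)<|f (g (Q 13) 17)<|f (g (Q 14) 18)<|f (g (Q 3) 19)<|
 f (g (W 18) 21)<|f (g (Q 25) 22)<|f (g (W 16) 23)<|f (g (Q 35) 24)<|f (g (W 9) 27)<|f (g (W 1) 28)<|f (g (W 3) 31)<|h)<|
 i (f (g (W 62) 0)<|f (g (Q 1) 1)<|f (g (Q 12) 2)<|f (g (Q 108) 3)<|f (g (W 8) 4)<|f (g (Q 61) 5)<|f (g (W 50) 6)<|f (g (W 14) 7)<|f (g (W 12) 8)<|f (g (Q 25) 9)<|f (g (W 7)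
 10)<|f (g (W 55) 11)<|f (g (W 20) 12)<|f (g (Q 10) 13)<|f (g (W 9) 14)<|f (g (Q 35) 15)<|f (g (Q 61) 16)<|f (g (W 12) 17)<|f (g (W 13) 18)<|f (g (W 2) 19)<|
 f (g (Q 19) 21)<|f (g (W 24) 22)<|f (g (Q 17) 23)<|f (g (W 34) 24)<|f (g (Q 10) 27)<|f (g (Q 2) 28)<|f (g (Q 4) 31)<|h)<|
 e);
 (f (f (g (Q 1) 0)<|h)<|
 f (f (g (W 0) 0)<|h)<|
 f (f (g (Q 63) 0)<|f (g (W 11) 2)<|f (g (W 107) 3)<|f (g (Q 9) 4)<|f (g (W 60) 5)<|f (g (Q 51) 6)<|f (g (Q 15) 7)<|f (g (Q 13) 8)<|f (g (W 24) 9)<|f (g (Q 8) 10)<|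
 f (g (Q 56) 11)<|f (g (Q 21) 12)<|f (g (W 9) 13)<|f (g (Q 10) 14)<|f (g (W 34) 15)<|f (g (W 60) 16)<|f (g (Q 13) 17)<|f (g (Q 14) 18)<|f (g (Q 3) 19)<|f (g (W 18)
 21)<|f (g (Q 25) 22)<|f (g (W 16) 23)<|f (g (Q 35) 24)<|f (g (W 9) 27)<|f (g (W 1) 28)<|f (g (W 3) 31)<|h)<|
 f (f (g (W 0) 0)<|f (g (W 2) 1)<|f (g (W 1) 3)<|f (g (W 1) 4)<|f (g (W 0) 5)<|f (g (Q 1) 7)<|f (g (W 0) 8)<|f (g (Q 2) 11)<|f (g (W 0) 12)<|f (g (W 0) 14)<|f (g (W 0) 15)<|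
 f (g (W 0) 16)<|f (g (Q 1) 19)<|f (g (Q 1) 22)<|f (g (Q 1) 24)<|f (g (W 0) 28)<|f (g (W 0) 31)<|h)<|
 e)))))

/-- the coefficients of a seed -/
def cfb : List (List (ℤ × ℕ)) := (beta% delta% lq26d4b3e7c8 fun _ f g h i _ _ _ _ _ _ =>
 (let e:=(let e:=(let e:=(i (f (g (W 3) 0)<|f (g (Q 1) 1)<|f (g (W 0) 2)<|f (g (W 4) 3)<|f (g (W 2) 4)<|f (g (W 2) 5)<|f (g (Q 1) 6)<|h)<|
 i (f (g (Q 178) 0)<|f (g (W 42) 1)<|f (g (Q 44) 2)<|f (g (Q 222) 3)<|f (g (Q 135) 4)<|f (g (Q 176) 5)<|f (g (W 57) 6)<|f (g (W 1) 7)<|h)<|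
 i (f (g (Q 215) 0)<|f (g (W 54) 1)<|f (g (Q 54) 2)<|f (g (Q 268) 3)<|f (g (Q 160) 4)<|f (g (Q 213) 5)<|f (g (W 69) 6)<|f (g (W 1) 7)<|h)<|
 i (f (g (Q 65) 0)<|f (g (W 16) 1)<|f (g (Q 15) 2)<|f (g (Q 82) 3)<|f (g (Q 48) 4)<|f (g (Q 64) 5)<|f (g (W 21) 6)<|h)<|
 i (f (g (Q 128) 0)<|f (g (W 27) 1)<|f (g (Q 30) 2)<|f (g (Q 160) 3)<|f (g (Q 100) 4)<|f (g (Q 126) 5)<|f (g (W 41) 6)<|f (g (W 1) 7)<|h)<|h);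
 (i (f (g (W 27) 0)<|f (g (Q 7) 1)<|f (g (W 6) 2)<|f (g (W 34) 3)<|f (g (W 21) 4)<|f (g (W 26) 5)<|f (g (Q 8) 6)<|f (g (Q 1) 7)<|h)<|
 i (f (g (Q 128) 0)<|f (g (W 30) 1)<|f (g (Q 31) 2)<|f (g (Q 159) 3)<|f (g (Q 98) 4)<|f (g (Q 125) 5)<|f (g (W 39) 6)<|f (g (W 2) 7)<|h)<|
 i (f (g (Q 32) 0)<|f (g (W 6) 1)<|f (g (Q 7) 2)<|f (g (Q 40) 3)<|f (g (Q 25) 4)<|f (g (Q 30) 5)<|f (g (W 9) 6)<|f (g (W 0) 7)<|h)<|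
 i (f (g (Q 106) 0)<|f (g (W 25) 1)<|f (g (Q 26) 2)<|f (g (Q 132) 3)<|f (g (Q 80) 4)<|f (g (Q 104) 5)<|f (g (W 33) 6)<|f (g (W 1) 7)<|h)<|
 e));
 (let e:=(i (f (g (Q 9) 0)<|f (g (W 2) 1)<|f (g (Q 2) 2)<|f (g (Q 11) 3)<|f (g (Q 6) 4)<|f (g (Q 9) 5)<|f (g (W 2) 6)<|h)<|
 i (f (g (Q 67) 0)<|f (g (W 16) 1)<|f (g (Q 17) 2)<|f (g (Q 84) 3)<|f (g (Q 50) 4)<|f (g (Q 66) 5)<|f (g (W 21) 6)<|f (g (W 0) 7)<|h)<|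
 i (f (g (W 102) 0)<|f (g (Q 25) 1)<|f (g (W 24) 2)<|f (g (W 127) 3)<|f (g (W 77) 4)<|f (g (W 100) 5)<|f (g (Q 33) 6)<|f (g (Q 2) 7)<|h)<|
 i (f (g (W 108) 0)<|f (g (Q 28) 1)<|f (g (W 26) 2)<|f (g (W 135) 3)<|f (g (W 80) 4)<|f (g (W 107) 5)<|f (g (Q 36) 6)<|f (g (Q 1) 7)<|h)<|
 i (f (g (Q 20) 0)<|f (g (W 3) 1)<|f (g (Q 4) 2)<|f (g (Q 25) 3)<|f (g (Q 15) 4)<|f (g (Q 19) 5)<|f (g (W 6) 6)<|f (g (W 0) 7)<|h)<|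
 e);
 (i (f (g (Q 88) 0)<|f (g (W 21) 1)<|f (g (Q 22) 2)<|f (g (Q 110) 3)<|f (g (Q 66) 4)<|f (g (Q 88) 5)<|f (g (W 28) 6)<|f (g (W 0) 7)<|h)<|
 i (f (g (Q 161) 0)<|f (g (W 38) 1)<|f (g (Q 40) 2)<|f (g (Q 201) 3)<|f (g (Q 123) 4)<|f (g (Q 159) 5)<|f (g (W 51) 6)<|f (g (W 1) 7)<|h)<|
 i (f (g (W 100) 0)<|f (g (Q 26) 1)<|f (g (W 24) 2)<|f (g (W 125) 3)<|f (g (W 74) 4)<|f (g (W 99) 5)<|f (g (Q 33) 6)<|f (g (Q 1) 7)<|h)<|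
 i (f (g (Q 29) 0)<|f (g (W 6) 1)<|f (g (Q 7) 2)<|f (g (Q 36) 3)<|f (g (Q 23) 4)<|f (g (Q 27) 5)<|f (g (W 7) 6)<|f (g (W 0) 7)<|h)<|
 e)));
 (let e:=(let e:=(i (f (g (W 1) 0)<|f (g (W 0) 1)<|f (g (W 1) 3)<|f (g (W 2) 4)<|f (g (W 0) 5)<|f (g (Q 1) 7)<|h)<|
 i (f (g (W 18) 0)<|f (g (Q 5) 1)<|f (g (W 4) 2)<|f (g (W 23) 3)<|f (g (W 13) 4)<|f (g (W 18) 5)<|f (g (Q 6) 6)<|h)<|
 i (f (g (W 105) 0)<|f (g (Q 25) 1)<|f (g (W 25) 2)<|f (g (W 131) 3)<|f (g (W 81) 4)<|f (g (W 102) 5)<|f (g (Q 33) 6)<|f (g (Q 3) 7)<|h)<|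
 i (f (g (Q 40) 0)<|f (g (W 10) 1)<|f (g (Q 10) 2)<|f (g (Q 50) 3)<|f (g (Q 29) 4)<|f (g (Q 40) 5)<|f (g (W 12) 6)<|h)<|
 i (f (g (W 255) 0)<|f (g (Q 64) 1)<|f (g (W 62) 2)<|f (g (W 318) 3)<|f (g (W 191) 4)<|f (g (W 252) 5)<|f (g (Q 83) 6)<|f (g (Q 3) 7)<|h)<|
 e);
 (i (f (g (W 68) 0)<|f (g (Q 17) 1)<|f (g (W 16) 2)<|f (g (W 86) 3)<|f (g (W 51) 4)<|f (g (W 68) 5)<|f (g (Q 23) 6)<|f (g (Q 1) 7)<|h)<|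
 i (f (g (Q 158) 0)<|f (g (W 38) 1)<|f (g (Q 39) 2)<|f (g (Q 197) 3)<|f (g (Q 118) 4)<|f (g (Q 157) 5)<|f (g (W 51) 6)<|f (g (W 1) 7)<|h)<|
 i (f (g (Q 108) 0)<|f (g (W 26) 1)<|f (g (Q 26) 2)<|f (g (Q 134) 3)<|f (g (Q 82) 4)<|f (g (Q 105) 5)<|f (g (W 32) 6)<|f (g (W 2) 7)<|h)<|
 i h<|
 e));
 (let e:=(i (f (g (W 87) 0)<|f (g (Q 22) 1)<|f (g (W 21) 2)<|f (g (W 109) 3)<|f (g (W 65) 4)<|f (g (W 87) 5)<|f (g (Q 29) 6)<|f (g (Q 1) 7)<|h)<|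
 i h<|
 i (f (g (W 160) 0)<|f (g (Q 39) 1)<|f (g (W 39) 2)<|f (g (W 200) 3)<|f (g (W 121) 4)<|f (g (W 158) 5)<|f (g (Q 52) 6)<|f (g (Q 2) 7)<|h)<|
 i (f (g (Q 39) 0)<|f (g (W 9) 1)<|f (g (Q 10) 2)<|f (g (Q 49) 3)<|f (g (Q 29) 4)<|f (g (Q 40) 5)<|f (g (W 12) 6)<|h)<|
 i (f (g (W 39) 0)<|f (g (Q 11) 1)<|f (g (W 9) 2)<|f (g (W 48) 3)<|f (g (W 28) 4)<|f (g (W 39) 5)<|f (g (Q 13) 6)<|h)<|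
 e);
 (f h<|
 f (f (g (Q 1) 0)<|h)<|
 f (f (g (Q 39) 0)<|f (g (W 10) 1)<|f (g (Q 10) 2)<|f (g (Q 49) 3)<|f (g (Q 29) 4)<|f (g (Q 40) 5)<|f (g (W 12) 6)<|h)<|
 f (f (g (Q 2) 0)<|f (g (Q 1) 1)<|f (g (Q 1) 2)<|f (g (Q 2) 3)<|f (g (Q 3) 4)<|f (g (Q 1) 5)<|f (g (W 0) 7)<|h)<|
 e)))))

/-- the coefficients of a seed -/
def cfc : List (List (ℤ × ℕ)) := (beta% delta% lq26d4b3e7c8 fun _ f g h i _ _ _ _ _ _ =>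
 (let e:=(let e:=(let e:=(i h<|
 i (f (g (Q 1) 0)<|h)<|
 i (f (g (W 0) 0)<|h)<|
 i (f (g (W 1) 0)<|h)<|
 i (f (g (Q 2) 0)<|h)<|h);
 (i (f (g (Q 1) 2)<|h)<|
 i (f (g (W 0) 2)<|h)<|
 i h<|
 i h<|
 e));
 (let e:=(i (f (g (W 0) 0)<|h)<|
 i h<|
 i h<|
 i (f (g (Q 1) 0)<|h)<|
 i h<|
 e);
 (i h<|
 i (f (g (Q 1) 0)<|h)<|
 i (f (g (Q 1) 0)<|h)<|
 i h<|
 e)));
 (let e:=(let e:=(i (f (g (W 0) 0)<|h)<|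
 i h<|
 i (f (g (Q 1) 2)<|h)<|
 i (f (g (W 0) 0)<|h)<|
 i h<|
 e);
 (i h<|
 i h<|
 i (f (g (W 0) 2)<|h)<|
 i h<|
 e));
 (let e:=(i h<|
 i (f (g (Q 1) 0)<|h)<|
 i (f (g (W 0) 0)<|h)<|
 i h<|
 i h<|
 e);
 (f h<|
 f h<|
 f (f (g (W 0) 0)<|h)<|
 f (f (g (Q 1) 0)<|h)<|
 e)))))

/-- the faithful rows at a multiple -/
def fr0 : List (List ℤ) := (beta% delta% lq26d4b3e7c8 fun d f _ h _ l _ _ _ _ _ =>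
 (let e:=(let e:=(let e:=(l (let e:=(let e:=(let e:=(d (Q 0)<|d (Q 4)<|d (Q 18)<|d (Q 12)<|d (W 1457)<|h);
 (d (Q 2)<|d (W 17)<|d (W 1)<|d (W 3)<|d (Q 180)<|e));
 (let e:=(d (Q 0)<|d (Q 0)<|d (W 1)<|d (Q 2)<|d (Q 0)<|e);
 (d (Q 0)<|d (Q 0)<|d (Q 0)<|
 d (Q 0)<|e)));
 (let e:=(let e:=(d (Q 2)<|d (Q 8)<|d (Q 0)<|d (Q 0)<|d (W 1)<|e);
 (d (Q 0)<|d (W 1)<|d (W 3)<|d (Q 0)<|e));
 (let e:=(d (Q 0)<|d (Q 2)<|d (Q 0)<|d (Q 6)<|d (Q 0)<|e);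
 (f (Q 416988)<|f (W 1187)<|f (W 35)<|f (Q 0)<|e))))<|
 l (let e:=(let e:=(let e:=(d (Q 0)<|d (W 13)<|d (Q 0)<|d (Q 50)<|d (W 1259)<|h);
 (d (Q 0)<|d (W 11)<|d (Q 0)<|d (W 5)<|d (Q 210)<|e));
 (let e:=(d (Q 3)<|d (W 0)<|d (Q 4)<|d (Q 0)<|d (W 3)<|e);
 (d (Q 0)<|d (Q 0)<|
 d (Q 0)<|d (Q 0)<|e)));
 (let e:=(let e:=(d (Q 0)<|d (Q 0)<|d (Q 0)<|d (Q 0)<|d (Q 0)<|e);
 (d (Q 0)<|d (Q 0)<|d (Q 2)<|d (Q 0)<|e));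
 (let e:=(d (W 179)<|d (Q 0)<|d (Q 0)<|d (W 3)<|d (Q 0)<|e);
 (f (Q 450450)<|f (Q 1170)<|f (Q 18)<|f (Q 12)<|e))))<|
 l (let e:=(let e:=(let e:=(d (Q 0)<|d (W 17)<|d (Q 30)<|d (W 161)<|d (Q 0)<|h);
 (d (Q 0)<|d (Q 0)<|d (Q 0)<|d (Q 6)<|d (W 209)<|e));
 (let e:=(d (W 2)<|d (Q 1)<|d (Q 0)<|d (W 1)<|d (Q 0)<|e);
 (d (Q 0)<|d (Q 0)<|d (Q 0)<|
 d (Q 0)<|e)));
 (let e:=(let e:=(d (Q 0)<|d (Q 0)<|d (Q 0)<|d (Q 0)<|d (Q 0)<|e);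
 (d (W 0)<|d (Q 0)<|d (W 1)<|d (Q 0)<|e));
 (let e:=(d (Q 0)<|d (W 1)<|d (Q 0)<|d (Q 0)<|d (Q 0)<|e);
 (f (Q 663390)<|f (W 161)<|f (Q 30)<|f (Q 0)<|e))))<|
 l (let e:=(let e:=(let e:=(d (Q 0)<|d (W 27)<|d (Q 0)<|d (Q 20)<|d (W 179)<|h);
 (d (Q 4)<|d (Q 12)<|d (W 3)<|d (Q 4)<|d (W 59)<|e));
 (let e:=(d (W 5)<|d (Q 2)<|d (W 3)<|d (Q 0)<|d (Q 8)<|e);
 (d (Q 0)<|d (Q 0)<|d (Q 0)<|
 d (Q 0)<|e)));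
 (let e:=(let e:=(d (Q 0)<|d (Q 0)<|d (Q 0)<|d (Q 0)<|d (Q 2)<|e);
 (d (Q 2)<|d (W 3)<|d (Q 4)<|d (Q 0)<|e));
 (let e:=(d (W 71)<|d (Q 0)<|d (Q 0)<|d (W 3)<|d (Q 0)<|e);
 (f (Q 11700)<|f (Q 180)<|f (W 11)<|f (Q 24)<|e))))<|
 l (let e:=(let e:=(let e:=(d (Q 0)<|d (Q 12)<|d (Q 12)<|d (W 35)<|d (Q 0)<|h);
 (d (Q 0)<|d (Q 0)<|d (Q 0)<|d (Q 12)<|d (W 83)<|e));
 (let e:=(d (Q 6)<|d (W 1)<|d (Q 0)<|d (W 3)<|d (Q 0)<|e);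
 (d (Q 0)<|d (Q 0)<|d (Q 0)<|
 d (Q 0)<|e)));
 (let e:=(let e:=(d (Q 0)<|d (Q 12)<|d (Q 0)<|d (Q 2)<|d (Q 0)<|e);
 (d (Q 2)<|d (Q 0)<|d (W 3)<|d (W 3)<|e));
 (let e:=(d (Q 0)<|d (Q 4)<|d (Q 0)<|d (Q 0)<|d (Q 0)<|e);
 (f (Q 20412)<|f (W 323)<|f (Q 60)<|f (Q 0)<|e))))<|h);
 (l (let e:=(let e:=(let e:=(d (Q 0)<|d (Q 0)<|d (W 29)<|d (Q 72)<|d (Q 0)<|h);
 (d (Q 0)<|d (Q 0)<|d (Q 6)<|d (Q 0)<|d (W 239)<|e));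
 (let e:=(d (W 5)<|d (W 1)<|d (Q 0)<|d (Q 2)<|d (Q 0)<|e);
 (d (Q 0)<|d (Q 0)<|d (Q 0)<|
 d (Q 0)<|e)));
 (let e:=(let e:=(d (Q 0)<|d (Q 0)<|d (Q 0)<|d (W 1)<|d (Q 0)<|e);
 (d (Q 0)<|d (W 1)<|d (Q 0)<|d (Q 0)<|e));
 (let e:=(d (Q 0)<|d (Q 2)<|d (Q 0)<|d (Q 0)<|d (Q 0)<|e);
 (f (Q 320760)<|f (W 647)<|f (Q 24)<|f (Q 0)<|e))))<|
 l (let e:=(let e:=(let e:=(d (Q 21)<|d (W 15)<|d (W 29)<|d (W 7)<|d (Q 1260)<|h);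
 (d (Q 0)<|d (Q 12)<|d (Q 0)<|d (Q 0)<|d (Q 0)<|e));
 (let e:=(d (Q 6)<|d (Q 2)<|d (W 3)<|d (Q 2)<|d (W 1)<|e);
 (d (Q 0)<|d (Q 0)<|d (Q 0)<|
 d (Q 0)<|e)));
 (let e:=(let e:=(d (Q 0)<|d (Q 0)<|d (Q 0)<|d (Q 0)<|d (Q 0)<|e);
 (d (Q 0)<|d (Q 0)<|d (Q 0)<|d (Q 0)<|e));
 (let e:=(d (Q 18)<|d (Q 2)<|d (Q 0)<|d (Q 4)<|d (Q 2)<|e);
 (f (Q 360360)<|f (Q 552)<|f (Q 8)<|f (W 5)<|e))))<|
 l (let e:=(let e:=(let e:=(d (Q 0)<|d (Q 8)<|d (Q 0)<|d (W 119)<|d (Q 1458)<|h);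
 (d (W 1)<|d (Q 18)<|d (Q 2)<|d (W 7)<|d (Q 72)<|e));
 (let e:=(d (Q 0)<|d (Q 0)<|d (Q 2)<|d (Q 0)<|d (Q 0)<|e);
 (d (Q 0)<|d (Q 0)<|d (Q 0)<|
 d (Q 0)<|e)));
 (let e:=(let e:=(d (W 1)<|d (Q 10)<|d (Q 0)<|d (Q 0)<|d (Q 2)<|e);
 (d (Q 1)<|d (Q 2)<|d (Q 0)<|d (Q 2)<|e));
 (let e:=(d (Q 0)<|d (Q 0)<|d (Q 0)<|d (W 5)<|d (Q 0)<|e);
 (f (Q 379080)<|f (W 1079)<|f (W 23)<|f (Q 0)<|e))))<|
 l (let e:=(let e:=(let e:=(d (Q 0)<|d (Q 28)<|d (Q 0)<|d (Q 100)<|d (W 1889)<|h);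
 (d (W 1)<|d (Q 30)<|d (W 5)<|d (Q 4)<|d (W 179)<|e));
 (let e:=(d (Q 0)<|d (Q 0)<|d (W 1)<|d (Q 0)<|d (Q 4)<|e);
 (d (Q 0)<|d (Q 0)<|d (Q 0)<|
 d (Q 0)<|e)));
 (let e:=(let e:=(d (Q 0)<|d (Q 0)<|d (Q 0)<|d (Q 0)<|d (Q 0)<|e);
 (d (Q 0)<|d (Q 2)<|d (Q 4)<|d (Q 0)<|e));
 (let e:=(d (W 107)<|d (Q 0)<|d (Q 0)<|d (W 1)<|d (Q 0)<|e);
 (f (Q 386100)<|f (Q 180)<|f (W 11)<|f (W 11)<|e))))<|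
 e));
 (let e:=(l (let e:=(let e:=(let e:=(d (Q 0)<|d (Q 30)<|d (W 5)<|d (W 17)<|d (Q 0)<|h);
 (d (Q 0)<|d (Q 0)<|d (Q 6)<|d (Q 6)<|d (Q 222)<|e));
 (let e:=(d (W 2)<|d (Q 1)<|d (Q 0)<|d (W 5)<|d (Q 0)<|e);
 (d (Q 0)<|d (Q 0)<|d (Q 0)<|
 d (Q 0)<|e)));
 (let e:=(let e:=(d (Q 0)<|d (W 5)<|d (Q 0)<|d (Q 0)<|d (Q 0)<|e);
 (d (Q 0)<|d (W 1)<|d (W 1)<|d (Q 2)<|e));
 (let e:=(d (Q 0)<|d (Q 2)<|d (Q 0)<|d (Q 0)<|d (Q 0)<|e);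
 (f (Q 208494)<|f (Q 1134)<|f (W 17)<|f (Q 0)<|e))))<|
 l (let e:=(let e:=(let e:=(d (Q 9)<|d (Q 8)<|d (W 23)<|d (Q 56)<|d (Q 1890)<|h);
 (d (Q 2)<|d (W 29)<|d (Q 0)<|d (Q 8)<|d (Q 168)<|e));
 (let e:=(d (Q 0)<|d (Q 0)<|d (Q 2)<|d (Q 0)<|d (Q 2)<|e);
 (d (Q 0)<|d (Q 0)<|d (Q 0)<|
 d (Q 0)<|e)));
 (let e:=(let e:=(d (Q 0)<|d (Q 6)<|d (Q 0)<|d (Q 0)<|d (Q 0)<|e);
 (d (Q 0)<|d (Q 0)<|d (Q 0)<|d (W 1)<|e));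
 (let e:=(d (W 53)<|d (W 3)<|d (Q 0)<|d (Q 2)<|d (W 1)<|e);
 (f (Q 216216)<|f (W 359)<|f (W 7)<|f (W 5)<|e))))<|
 l (let e:=(let e:=(let e:=(d (Q 0)<|d (Q 0)<|d (W 17)<|d (Q 128)<|d (W 1511)<|h);
 (d (Q 0)<|d (Q 24)<|d (Q 0)<|d (Q 0)<|d (Q 0)<|e));
 (let e:=(d (Q 0)<|d (Q 0)<|d (Q 0)<|d (W 1)<|d (W 3)<|e);
 (d (Q 0)<|d (Q 0)<|d (Q 0)<|
 d (Q 0)<|e)));
 (let e:=(let e:=(d (W 1)<|d (W 7)<|d (Q 0)<|d (Q 2)<|d (Q 0)<|e);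
 (d (Q 0)<|d (Q 0)<|d (Q 0)<|d (Q 0)<|e));
 (let e:=(d (Q 108)<|d (W 1)<|d (Q 0)<|d (Q 8)<|d (Q 0)<|e);
 (f (Q 266112)<|f (W 1151)<|f (Q 0)<|f (Q 12)<|e))))<|
 l (let e:=(let e:=(let e:=(d (W 8)<|d (Q 6)<|d (Q 0)<|d (W 49)<|d (Q 1512)<|h);
 (d (Q 0)<|d (W 23)<|d (Q 0)<|d (Q 6)<|d (W 41)<|e));
 (let e:=(d (Q 3)<|d (W 0)<|d (Q 0)<|d (Q 0)<|d (W 1)<|e);
 (d (Q 0)<|d (Q 0)<|d (Q 0)<|
 d (Q 0)<|e)));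
 (let e:=(let e:=(d (Q 2)<|d (W 9)<|d (Q 0)<|d (Q 0)<|d (Q 0)<|e);
 (d (Q 0)<|d (Q 0)<|d (Q 6)<|d (W 1)<|e));
 (let e:=(d (Q 54)<|d (Q 0)<|d (Q 0)<|d (W 7)<|d (Q 2)<|e);
 (f (Q 270270)<|f (W 449)<|f (W 33)<|f (Q 6)<|e))))<|
 l (let e:=(let e:=(let e:=(d (W 7)<|d (Q 0)<|d (Q 12)<|d (Q 0)<|d (W 671)<|h);
 (d (Q 0)<|d (W 31)<|d (Q 0)<|d (Q 0)<|d (Q 0)<|e));
 (let e:=(d (Q 0)<|d (Q 0)<|d (Q 0)<|d (Q 4)<|d (Q 0)<|e);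
 (d (Q 0)<|d (Q 0)<|d (Q 3)<|
 d (Q 1)<|e)));
 (let e:=(let e:=(d (W 1)<|d (W 7)<|d (Q 0)<|d (Q 0)<|d (Q 0)<|e);
 (d (Q 1)<|d (Q 0)<|d (Q 0)<|d (Q 0)<|e));
 (let e:=(d (Q 120)<|d (Q 0)<|d (Q 0)<|d (Q 0)<|d (Q 0)<|e);
 (f (Q 279552)<|f (Q 1024)<|f (Q 0)<|f (W 7)<|e))))<|
 e);
 (l (let e:=(let e:=(let e:=(d (W 20)<|d (Q 4)<|d (Q 0)<|d (W 19)<|d (Q 2070)<|h);
 (d (Q 2)<|d (Q 54)<|d (W 1)<|d (W 3)<|d (Q 180)<|e));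
 (let e:=(d (Q 0)<|d (Q 0)<|d (W 1)<|d (Q 0)<|d (W 1)<|e);
 (d (Q 0)<|d (Q 0)<|d (Q 0)<|
 d (Q 0)<|e)));
 (let e:=(let e:=(d (Q 0)<|d (Q 0)<|d (Q 0)<|d (Q 0)<|d (W 1)<|e);
 (d (Q 0)<|d (W 1)<|d (Q 4)<|d (Q 0)<|e));
 (let e:=(d (Q 18)<|d (Q 0)<|d (Q 0)<|d (W 1)<|d (W 1)<|e);
 (f (Q 128700)<|f (Q 60)<|f (Q 28)<|f (W 5)<|e))))<|
 l (let e:=(let e:=(let e:=(d (W 10)<|d (W 1)<|d (Q 0)<|d (W 9)<|d (Q 1470)<|h);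
 (d (W 1)<|d (W 1)<|d (Q 0)<|d (W 1)<|d (W 209)<|e));
 (let e:=(d (Q 3)<|d (W 0)<|d (W 1)<|d (Q 0)<|d (Q 2)<|e);
 (d (Q 0)<|d (Q 0)<|d (W 2)<|
 d (Q 1)<|e)));
 (let e:=(let e:=(d (Q 0)<|d (Q 0)<|d (Q 0)<|d (Q 0)<|d (Q 0)<|e);
 (d (Q 0)<|d (Q 0)<|d (W 1)<|d (Q 0)<|e));
 (let e:=(d (W 5)<|d (Q 0)<|d (Q 0)<|d (Q 14)<|d (W 1)<|e);
 (f (Q 150150)<|f (Q 1030)<|f (W 25)<|f (Q 10)<|e))))<|
 l (let e:=(let e:=(let e:=(d (Q 7)<|d (W 1)<|d (Q 0)<|d (W 9)<|d (W 419)<|h);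
 (d (Q 4)<|d (Q 28)<|d (Q 0)<|d (W 1)<|d (W 209)<|e));
 (let e:=(d (Q 3)<|d (W 0)<|d (Q 4)<|d (Q 0)<|d (Q 2)<|e);
 (d (Q 0)<|d (Q 0)<|d (Q 0)<|
 d (W 1)<|e)));
 (let e:=(let e:=(d (Q 0)<|d (Q 0)<|d (Q 0)<|d (Q 0)<|d (Q 0)<|e);
 (d (Q 0)<|d (Q 0)<|d (W 1)<|d (Q 0)<|e));
 (let e:=(d (Q 102)<|d (Q 0)<|d (Q 0)<|d (W 3)<|d (W 1)<|e);
 (f (Q 150150)<|f (Q 1030)<|f (W 25)<|f (W 1)<|e))))<|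
 l (let e:=(let e:=(let e:=(d (W 12)<|d (W 15)<|d (Q 0)<|d (Q 80)<|d (W 1019)<|h);
 (d (Q 0)<|d (W 27)<|d (Q 2)<|d (Q 0)<|d (Q 240)<|e));
 (let e:=(d (Q 0)<|d (Q 0)<|d (W 3)<|d (Q 0)<|d (Q 2)<|e);
 (d (Q 0)<|d (Q 0)<|d (W 2)<|
 d (W 0)<|e)));
 (let e:=(let e:=(d (Q 0)<|d (Q 0)<|d (Q 0)<|d (Q 0)<|d (Q 2)<|e);
 (d (Q 0)<|d (Q 2)<|d (Q 0)<|d (Q 0)<|e));
 (let e:=(d (Q 78)<|d (Q 0)<|d (Q 0)<|d (W 3)<|d (W 1)<|e);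
 (f (Q 171600)<|f (Q 80)<|f (Q 16)<|f (W 9)<|e))))<|
 e)));
 (let e:=(let e:=(l (let e:=(let e:=(let e:=(d (Q 0)<|d (Q 22)<|d (W 5)<|d (Q 38)<|d (W 377)<|h);
 (d (W 1)<|d (Q 6)<|d (Q 0)<|d (W 1)<|d (W 41)<|e));
 (let e:=(d (W 2)<|d (Q 1)<|d (W 1)<|d (Q 2)<|d (W 3)<|e);
 (d (Q 0)<|d (Q 0)<|d (Q 0)<|
 d (Q 0)<|e)));
 (let e:=(let e:=(d (Q 2)<|d (Q 14)<|d (Q 0)<|d (Q 0)<|d (Q 0)<|e);
 (d (Q 0)<|d (Q 0)<|d (W 1)<|d (W 1)<|e));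
 (let e:=(d (Q 108)<|d (W 1)<|d (Q 0)<|d (W 9)<|d (Q 0)<|e);
 (f (Q 54054)<|f (Q 1062)<|f (Q 6)<|f (Q 12)<|e))))<|
 l (let e:=(let e:=(let e:=(d (Q 9)<|d (Q 0)<|d (Q 6)<|d (Q 112)<|d (Q 1512)<|h);
 (d (Q 0)<|d (W 23)<|d (W 5)<|d (Q 0)<|d (W 95)<|e));
 (let e:=(d (Q 0)<|d (Q 0)<|d (Q 0)<|d (W 1)<|d (W 1)<|e);
 (d (Q 0)<|d (Q 0)<|d (Q 0)<|
 d (Q 0)<|e)));
 (let e:=(let e:=(d (Q 2)<|d (W 3)<|d (Q 0)<|d (Q 0)<|d (Q 0)<|e);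
 (d (Q 0)<|d (Q 2)<|d (Q 0)<|d (Q 4)<|e));
 (let e:=(d (Q 54)<|d (Q 2)<|d (Q 0)<|d (W 7)<|d (W 1)<|e);
 (f (Q 61776)<|f (W 431)<|f (Q 16)<|f (Q 6)<|e))))<|
 l (let e:=(let e:=(let e:=(d (Q 11)<|d (Q 0)<|d (Q 0)<|d (W 39)<|d (Q 840)<|h);
 (d (Q 0)<|d (Q 8)<|d (W 5)<|d (Q 0)<|d (Q 240)<|e));
 (let e:=(d (W 5)<|d (W 1)<|d (Q 0)<|d (Q 0)<|d (Q 2)<|e);
 (d (Q 0)<|d (Q 0)<|d (W 2)<|
 d (W 0)<|e)));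
 (let e:=(let e:=(d (Q 0)<|d (Q 0)<|d (Q 0)<|d (Q 0)<|d (Q 0)<|e);
 (d (Q 0)<|d (Q 2)<|d (Q 0)<|d (Q 0)<|e));
 (let e:=(d (Q 66)<|d (Q 0)<|d (Q 0)<|d (Q 8)<|d (Q 2)<|e);
 (f (Q 85800)<|f (Q 680)<|f (Q 8)<|f (Q 2)<|e))))<|
 l (let e:=(let e:=(let e:=(d (W 8)<|d (Q 14)<|d (Q 0)<|d (Q 110)<|d (Q 1890)<|h);
 (d (Q 2)<|d (W 29)<|d (Q 0)<|d (W 9)<|d (W 209)<|e));
 (let e:=(d (W 2)<|d (Q 1)<|d (Q 2)<|d (Q 0)<|d (Q 2)<|e);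
 (d (Q 0)<|d (Q 0)<|d (Q 0)<|
 d (Q 0)<|e)));
 (let e:=(let e:=(d (Q 0)<|d (Q 0)<|d (Q 0)<|d (Q 2)<|d (Q 0)<|e);
 (d (Q 0)<|d (Q 0)<|d (W 1)<|d (Q 0)<|e));
 (let e:=(d (W 53)<|d (Q 0)<|d (Q 0)<|d (Q 2)<|d (Q 2)<|e);
 (f (Q 103950)<|f (Q 270)<|f (Q 14)<|f (W 5)<|e))))<|
 l (let e:=(let e:=(let e:=(d (Q 10)<|d (Q 8)<|d (Q 0)<|d (W 39)<|d (Q 42)<|h);
 (d (W 1)<|d (Q 10)<|d (Q 0)<|d (W 7)<|d (Q 168)<|e));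
 (let e:=(d (Q 0)<|d (Q 0)<|d (Q 2)<|d (Q 0)<|d (Q 8)<|e);
 (d (Q 0)<|d (Q 0)<|d (Q 3)<|
 d (Q 1)<|e)));
 (let e:=(let e:=(d (Q 2)<|d (W 9)<|d (Q 0)<|d (Q 0)<|d (Q 0)<|e);
 (d (Q 0)<|d (Q 0)<|d (Q 0)<|d (W 1)<|e));
 (let e:=(d (Q 60)<|d (Q 0)<|d (Q 0)<|d (Q 2)<|d (Q 0)<|e);
 (f (Q 120120)<|f (W 199)<|f (Q 24)<|f (Q 4)<|e))))<|
 e);
 (l (let e:=(let e:=(let e:=(d (Q 0)<|d (W 3)<|d (Q 18)<|d (Q 132)<|d (Q 1458)<|h);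
 (d (W 1)<|d (Q 18)<|d (W 3)<|d (Q 4)<|d (Q 108)<|e));
 (let e:=(d (Q 0)<|d (Q 0)<|d (Q 2)<|d (Q 2)<|d (Q 0)<|e);
 (d (Q 0)<|d (Q 0)<|d (Q 0)<|
 d (Q 0)<|e)));
 (let e:=(let e:=(d (W 1)<|d (W 1)<|d (Q 0)<|d (Q 0)<|d (Q 2)<|e);
 (d (W 0)<|d (W 3)<|d (W 3)<|d (W 1)<|e));
 (let e:=(d (Q 0)<|d (Q 2)<|d (Q 0)<|d (W 5)<|d (Q 0)<|e);
 (f (Q 37908)<|f (W 107)<|f (W 11)<|f (Q 0)<|e))))<|
 l (let e:=(let e:=(let e:=(d (W 9)<|d (W 19)<|d (Q 0)<|d (Q 100)<|d (Q 1230)<|h);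
 (d (W 1)<|d (Q 14)<|d (Q 4)<|d (Q 4)<|d (Q 60)<|e));
 (let e:=(d (Q 0)<|d (Q 0)<|d (W 1)<|d (Q 0)<|d (Q 4)<|e);
 (d (Q 0)<|d (Q 0)<|d (Q 3)<|
 d (W 0)<|e)));
 (let e:=(let e:=(d (Q 0)<|d (Q 0)<|d (Q 0)<|d (Q 0)<|d (W 1)<|e);
 (d (Q 0)<|d (Q 4)<|d (W 3)<|d (Q 0)<|e));
 (let e:=(d (W 47)<|d (Q 0)<|d (Q 0)<|d (W 1)<|d (Q 0)<|e);
 (f (Q 42900)<|f (Q 20)<|f (W 11)<|f (Q 8)<|e))))<|
 l (let e:=(let e:=(let e:=(d (W 9)<|d (Q 16)<|d (Q 0)<|d (Q 40)<|d (W 419)<|h);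
 (d (Q 0)<|d (W 3)<|d (Q 0)<|d (Q 0)<|d (Q 0)<|e));
 (let e:=(d (Q 6)<|d (Q 2)<|d (Q 4)<|d (Q 0)<|d (Q 4)<|e);
 (d (Q 0)<|d (Q 0)<|d (W 2)<|
 d (W 0)<|e)));
 (let e:=(let e:=(d (Q 0)<|d (Q 0)<|d (Q 0)<|d (W 1)<|d (Q 0)<|e);
 (d (Q 0)<|d (Q 0)<|d (Q 0)<|d (Q 0)<|e));
 (let e:=(d (Q 48)<|d (Q 0)<|d (Q 0)<|d (Q 4)<|d (Q 0)<|e);
 (f (Q 46200)<|f (W 519)<|f (Q 24)<|f (Q 8)<|e))))<|
 l (let e:=(let e:=(let e:=(d (W 6)<|d (W 31)<|d (W 11)<|d (Q 80)<|d (W 587)<|h);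
 (d (Q 0)<|d (Q 20)<|d (Q 0)<|d (Q 0)<|d (Q 0)<|e));
 (let e:=(d (Q 0)<|d (Q 0)<|d (Q 4)<|d (W 3)<|d (Q 2)<|e);
 (d (Q 0)<|d (Q 0)<|d (Q 0)<|
 d (Q 2)<|e)));
 (let e:=(let e:=(d (Q 2)<|d (Q 8)<|d (Q 0)<|d (Q 0)<|d (Q 0)<|e);
 (d (Q 0)<|d (Q 0)<|d (Q 0)<|d (Q 0)<|e));
 (let e:=(d (Q 78)<|d (Q 0)<|d (Q 0)<|d (W 3)<|d (Q 2)<|e);
 (f (Q 48048)<|f (Q 176)<|f (W 15)<|f (W 9)<|e))))<|
 e));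
 (let e:=(l (let e:=(let e:=(let e:=(d (W 6)<|d (Q 8)<|d (Q 12)<|d (Q 40)<|d (Q 282)<|h);
 (d (Q 2)<|d (Q 26)<|d (Q 2)<|d (Q 8)<|d (Q 72)<|e));
 (let e:=(d (Q 0)<|d (Q 0)<|d (Q 2)<|d (Q 4)<|d (W 1)<|e);
 (d (Q 0)<|d (Q 0)<|d (Q 0)<|d (Q 2)<|
 e)));
 (let e:=(let e:=(d (Q 2)<|d (Q 2)<|d (Q 0)<|d (Q 0)<|d (Q 2)<|e);
 (d (Q 0)<|d (Q 2)<|d (Q 0)<|d (Q 2)<|e));
 (let e:=(d (W 5)<|d (Q 0)<|d (Q 0)<|d (Q 10)<|d (Q 2)<|e);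
 (f (Q 3432)<|f (Q 104)<|f (Q 8)<|f (Q 2)<|e))))<|
 l (let e:=(let e:=(let e:=(d (Q 13)<|d (Q 2)<|d (Q 30)<|d (Q 98)<|d (Q 420)<|h);
 (d (Q 0)<|d (Q 4)<|d (Q 6)<|d (W 5)<|d (W 29)<|e));
 (let e:=(d (Q 3)<|d (W 0)<|d (W 3)<|d (W 1)<|d (Q 2)<|e);
 (d (Q 0)<|d (Q 0)<|d (W 2)<|d (Q 1)<|
 e)));
 (let e:=(let e:=(d (Q 0)<|d (Q 0)<|d (Q 0)<|d (Q 0)<|d (Q 0)<|e);
 (d (Q 0)<|d (W 1)<|d (Q 2)<|d (Q 0)<|e));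
 (let e:=(d (Q 6)<|d (W 1)<|d (Q 0)<|d (W 3)<|d (Q 2)<|e);
 (f (Q 4290)<|f (W 61)<|f (Q 2)<|f (W 1)<|e))))<|
 l (let e:=(let e:=(let e:=(d (W 4)<|d (W 9)<|d (Q 6)<|d (Q 22)<|d (Q 210)<|h);
 (d (W 1)<|d (W 13)<|d (Q 0)<|d (W 1)<|d (W 41)<|e));
 (let e:=(d (W 2)<|d (Q 1)<|d (Q 2)<|d (W 1)<|d (W 1)<|e);
 (d (Q 0)<|d (Q 0)<|d (Q 0)<|
 d (W 1)<|e)));
 (let e:=(let e:=(d (Q 0)<|d (Q 6)<|d (Q 0)<|d (Q 0)<|d (Q 0)<|e);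
 (d (Q 0)<|d (Q 0)<|d (Q 6)<|d (W 1)<|e));
 (let e:=(d (Q 30)<|d (Q 2)<|d (Q 0)<|d (Q 10)<|d (Q 2)<|e);
 (f (Q 6006)<|f (Q 118)<|f (W 9)<|f (W 1)<|e))))<|
 l (let e:=(let e:=(let e:=(d (Q 5)<|d (W 3)<|d (Q 0)<|d (Q 20)<|d (Q 138)<|h);
 (d (W 1)<|d (W 21)<|d (W 1)<|d (Q 4)<|d (Q 12)<|e));
 (let e:=(d (Q 0)<|d (Q 0)<|d (Q 2)<|d (Q 0)<|d (Q 2)<|e);
 (d (Q 0)<|d (Q 0)<|d (Q 0)<|
 d (Q 2)<|e)));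
 (let e:=(let e:=(d (W 1)<|d (Q 10)<|d (Q 0)<|d (Q 0)<|d (W 1)<|e);
 (d (Q 0)<|d (W 1)<|d (Q 4)<|d (Q 2)<|e));
 (let e:=(d (Q 66)<|d (Q 0)<|d (Q 0)<|d (Q 2)<|d (W 1)<|e);
 (f (Q 8580)<|f (Q 260)<|f (Q 4)<|f (Q 2)<|e))))<|
 l (let e:=(let e:=(let e:=(d (Q 8)<|d (Q 0)<|d (Q 30)<|d (Q 128)<|d (Q 840)<|h);
 (d (Q 0)<|d (Q 8)<|d (Q 0)<|d (Q 0)<|d (Q 0)<|e));
 (let e:=(d (Q 0)<|d (Q 0)<|d (Q 0)<|d (W 1)<|d (W 3)<|e);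
 (d (Q 0)<|d (Q 0)<|d (Q 3)<|
 d (W 0)<|e)));
 (let e:=(let e:=(d (Q 0)<|d (Q 0)<|d (Q 0)<|d (W 1)<|d (Q 0)<|e);
 (d (Q 1)<|d (Q 0)<|d (Q 0)<|d (Q 0)<|e));
 (let e:=(d (Q 12)<|d (W 1)<|d (Q 0)<|d (Q 8)<|d (Q 0)<|e);
 (f (Q 13440)<|f (Q 128)<|f (Q 0)<|f (W 3)<|e))))<|
 e);
 (f (let e:=(let e:=(let e:=(d (Q 7)<|d (W 3)<|d (Q 12)<|d (Q 20)<|d (Q 42)<|h);
 (d (W 1)<|d (Q 10)<|d (Q 6)<|d (Q 4)<|d (Q 12)<|e));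
 (let e:=(d (Q 0)<|d (Q 0)<|d (Q 2)<|d (Q 4)<|d (Q 2)<|e);
 (d (Q 0)<|d (Q 0)<|d (Q 0)<|d (W 1)<|
 e)));
 (let e:=(let e:=(d (Q 2)<|d (Q 2)<|d (Q 0)<|d (Q 2)<|d (Q 0)<|e);
 (d (Q 0)<|d (W 1)<|d (Q 4)<|d (Q 2)<|e));
 (let e:=(d (Q 6)<|d (Q 0)<|d (Q 0)<|d (Q 2)<|d (W 1)<|e);
 (f (Q 132)<|f (Q 4)<|f (Q 4)<|f (W 1)<|e))))<|
 f (let e:=(let e:=(let e:=(d (Q 4)<|d (Q 4)<|d (Q 6)<|d (Q 12)<|d (Q 30)<|h);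
 (d (Q 2)<|d (W 1)<|d (Q 2)<|d (W 3)<|d (W 11)<|e));
 (let e:=(d (Q 0)<|d (Q 0)<|d (W 1)<|d (W 1)<|d (Q 0)<|e);
 (d (Q 0)<|d (Q 0)<|d (Q 3)<|d (Q 1)<|
 e)));
 (let e:=(let e:=(d (Q 0)<|d (Q 6)<|d (Q 0)<|d (Q 0)<|d (Q 2)<|e);
 (d (W 0)<|d (Q 2)<|d (Q 4)<|d (W 1)<|e));
 (let e:=(d (Q 12)<|d (Q 2)<|d (Q 0)<|d (Q 6)<|d (W 3)<|e);
 (f (Q 156)<|f (Q 28)<|f (W 3)<|f (Q 4)<|e))))<|
 f (let e:=(let e:=(let e:=(d (Q 10)<|d (Q 2)<|d (Q 18)<|d (Q 42)<|d (Q 138)<|h);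
 (d (Q 2)<|d (Q 10)<|d (Q 4)<|d (Q 2)<|d (Q 18)<|e));
 (let e:=(d (W 2)<|d (Q 1)<|d (Q 2)<|d (Q 2)<|d (Q 0)<|e);
 (d (Q 0)<|d (Q 0)<|d (W 2)<|d (Q 1)<|
 e)));
 (let e:=(let e:=(d (W 1)<|d (W 1)<|d (Q 0)<|d (Q 0)<|d (W 1)<|e);
 (d (Q 0)<|d (Q 4)<|d (Q 2)<|d (W 1)<|e));
 (let e:=(d (Q 12)<|d (Q 2)<|d (Q 0)<|d (W 5)<|d (Q 0)<|e);
 (f (Q 858)<|f (W 37)<|f (W 5)<|f (Q 4)<|e))))<|
 f (let e:=(let e:=(let e:=(d (W 3)<|d (Q 10)<|d (Q 0)<|d (Q 10)<|d (W 41)<|h);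
 (d (Q 2)<|d (W 9)<|d (Q 0)<|d (Q 2)<|d (Q 42)<|e));
 (let e:=(d (Q 3)<|d (W 0)<|d (W 1)<|d (Q 0)<|d (Q 4)<|e);
 (d (Q 0)<|d (Q 0)<|d (Q 3)<|
 d (W 0)<|e)));
 (let e:=(let e:=(d (W 1)<|d (Q 10)<|d (Q 0)<|d (Q 0)<|d (Q 0)<|e);
 (d (W 0)<|d (Q 0)<|d (Q 2)<|d (Q 2)<|e));
 (let e:=(d (Q 48)<|d (Q 0)<|d (Q 0)<|d (W 1)<|d (Q 4)<|e);
 (f (Q 2730)<|f (Q 170)<|f (Q 10)<|f (Q 8)<|e))))<|
 e)))))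

/-- the faithful rows at a multiple -/
def fr1 : List (List ℤ) := (beta% delta% lq26d4b3e7c8 fun d f _ h _ l _ _ _ _ _ =>
 (let e:=(let e:=(let e:=(l (let e:=(let e:=(let e:=(d (Q 0)<|d (W 1)<|d (W 8)<|d (W 5)<|d (Q 729)<|h);
 (d (W 0)<|d (Q 9)<|d (Q 1)<|d (Q 2)<|d (W 89)<|e));
 (let e:=(d (Q 0)<|d (Q 0)<|d (Q 1)<|d (W 0)<|d (Q 0)<|e);
 (d (Q 0)<|d (Q 0)<|d (Q 0)<|
 d (Q 0)<|e)));
 (let e:=(let e:=(d (W 0)<|d (W 3)<|d (Q 0)<|d (Q 0)<|d (Q 1)<|e);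
 (d (Q 0)<|d (Q 1)<|d (Q 2)<|d (Q 0)<|e));
 (let e:=(d (Q 0)<|d (W 0)<|d (Q 0)<|d (W 2)<|d (Q 0)<|e);
 (f (W 208493)<|f (Q 594)<|f (Q 18)<|f (Q 0)<|e))))<|
 l (let e:=(let e:=(let e:=(d (Q 0)<|d (Q 7)<|d (Q 0)<|d (W 24)<|d (Q 630)<|h);
 (d (Q 0)<|d (Q 6)<|d (Q 0)<|d (Q 3)<|d (W 104)<|e));
 (let e:=(d (Q 3)<|d (Q 2)<|d (W 1)<|d (Q 0)<|d (Q 2)<|e);
 (d (Q 0)<|d (Q 0)<|d (Q 0)<|
 d (Q 0)<|e)));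
 (let e:=(let e:=(d (Q 0)<|d (Q 0)<|d (Q 0)<|d (Q 0)<|d (Q 0)<|e);
 (d (Q 0)<|d (Q 0)<|d (W 0)<|d (Q 0)<|e));
 (let e:=(d (Q 90)<|d (Q 0)<|d (Q 0)<|d (Q 2)<|d (Q 0)<|e);
 (f (W 225224)<|f (W 584)<|f (W 8)<|f (W 5)<|e))))<|
 l (let e:=(let e:=(let e:=(d (Q 0)<|d (Q 9)<|d (W 14)<|d (Q 81)<|d (Q 0)<|h);
 (d (Q 0)<|d (Q 0)<|d (Q 0)<|d (W 2)<|d (Q 105)<|e));
 (let e:=(d (W 2)<|d (W 1)<|d (Q 0)<|d (Q 1)<|d (Q 0)<|e);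
 (d (Q 0)<|d (Q 0)<|d (Q 0)<|
 d (Q 0)<|e)));
 (let e:=(let e:=(d (Q 0)<|d (Q 0)<|d (Q 0)<|d (Q 0)<|d (Q 0)<|e);
 (d (W 0)<|d (Q 0)<|d (Q 1)<|d (Q 0)<|e));
 (let e:=(d (Q 0)<|d (Q 1)<|d (Q 0)<|d (Q 0)<|d (Q 0)<|e);
 (f (W 331694)<|f (Q 81)<|f (W 14)<|f (Q 0)<|e))))<|
 l (let e:=(let e:=(let e:=(d (Q 0)<|d (Q 14)<|d (Q 0)<|d (W 9)<|d (Q 90)<|h);
 (d (W 1)<|d (W 5)<|d (Q 2)<|d (W 1)<|d (Q 30)<|e));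
 (let e:=(d (W 5)<|d (W 3)<|d (Q 2)<|d (Q 0)<|d (W 3)<|e);
 (d (Q 0)<|d (Q 0)<|d (Q 0)<|d (Q 0)<|
 e)));
 (let e:=(let e:=(d (Q 0)<|d (Q 0)<|d (Q 0)<|d (Q 0)<|d (W 0)<|e);
 (d (Q 2)<|d (Q 2)<|d (W 1)<|d (Q 0)<|e));
 (let e:=(d (Q 36)<|d (Q 0)<|d (Q 0)<|d (Q 2)<|d (Q 0)<|e);
 (f (W 5849)<|f (W 89)<|f (Q 6)<|f (W 11)<|e))))<|
 l (let e:=(let e:=(let e:=(d (Q 0)<|d (W 5)<|d (W 5)<|d (Q 18)<|d (Q 0)<|h);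
 (d (Q 0)<|d (Q 0)<|d (Q 0)<|d (W 5)<|d (Q 42)<|e));
 (let e:=(d (Q 6)<|d (Q 4)<|d (Q 0)<|d (Q 2)<|d (Q 0)<|e);
 (d (Q 0)<|d (Q 0)<|d (Q 0)<|
 d (Q 0)<|e)));
 (let e:=(let e:=(d (Q 0)<|d (W 5)<|d (Q 0)<|d (W 0)<|d (Q 0)<|e);
 (d (Q 2)<|d (Q 0)<|d (Q 2)<|d (Q 2)<|e));
 (let e:=(d (Q 0)<|d (W 1)<|d (Q 0)<|d (Q 0)<|d (Q 0)<|e);
 (f (W 10205)<|f (Q 162)<|f (W 29)<|f (Q 0)<|e))))<|h);
 (l (let e:=(let e:=(let e:=(d (Q 0)<|d (Q 0)<|d (Q 15)<|d (W 35)<|d (Q 0)<|h);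
 (d (Q 0)<|d (Q 0)<|d (W 2)<|d (Q 0)<|d (Q 120)<|e));
 (let e:=(d (W 5)<|d (Q 4)<|d (Q 0)<|d (W 0)<|d (Q 0)<|e);
 (d (Q 0)<|d (Q 0)<|d (Q 0)<|
 d (Q 0)<|e)));
 (let e:=(let e:=(d (Q 0)<|d (Q 0)<|d (Q 0)<|d (Q 1)<|d (Q 0)<|e);
 (d (Q 0)<|d (Q 1)<|d (Q 0)<|d (Q 0)<|e));
 (let e:=(d (Q 0)<|d (W 0)<|d (Q 0)<|d (Q 0)<|d (Q 0)<|e);
 (f (W 160379)<|f (Q 324)<|f (W 11)<|f (Q 0)<|e))))<|
 l (let e:=(let e:=(let e:=(d (W 5)<|d (Q 8)<|d (Q 15)<|d (Q 4)<|d (W 629)<|h);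
 (d (Q 0)<|d (W 5)<|d (Q 0)<|d (Q 0)<|d (Q 0)<|e));
 (let e:=(d (Q 6)<|d (W 3)<|d (Q 2)<|d (W 0)<|d (Q 1)<|e);
 (d (Q 0)<|d (Q 0)<|d (Q 0)<|
 d (Q 0)<|e)));
 (let e:=(let e:=(d (Q 0)<|d (Q 0)<|d (Q 0)<|d (Q 0)<|d (Q 0)<|e);
 (d (Q 0)<|d (Q 0)<|d (Q 0)<|d (Q 0)<|e));
 (let e:=(d (W 8)<|d (W 0)<|d (Q 0)<|d (W 1)<|d (W 0)<|e);
 (f (W 180179)<|f (W 275)<|f (W 3)<|f (Q 3)<|e))))<|
 l (let e:=(let e:=(let e:=(d (Q 0)<|d (W 3)<|d (Q 0)<|d (Q 60)<|d (W 728)<|h);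
 (d (Q 1)<|d (W 8)<|d (W 0)<|d (Q 4)<|d (W 35)<|e));
 (let e:=(d (Q 0)<|d (Q 0)<|d (W 0)<|d (Q 0)<|d (Q 0)<|e);
 (d (Q 0)<|d (Q 0)<|d (Q 0)<|
 d (Q 0)<|e)));
 (let e:=(let e:=(d (Q 1)<|d (W 4)<|d (Q 0)<|d (Q 0)<|d (W 0)<|e);
 (d (Q 1)<|d (W 0)<|d (Q 0)<|d (W 0)<|e));
 (let e:=(d (Q 0)<|d (Q 0)<|d (Q 0)<|d (Q 3)<|d (Q 0)<|e);
 (f (W 189539)<|f (Q 540)<|f (Q 12)<|f (Q 0)<|e))))<|
 l (let e:=(let e:=(let e:=(d (Q 0)<|d (W 13)<|d (Q 0)<|d (W 49)<|d (Q 945)<|h);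
 (d (Q 1)<|d (W 14)<|d (Q 3)<|d (W 1)<|d (Q 90)<|e));
 (let e:=(d (Q 0)<|d (Q 0)<|d (Q 1)<|d (Q 0)<|d (W 1)<|e);
 (d (Q 0)<|d (Q 0)<|d (Q 0)<|
 d (Q 0)<|e)));
 (let e:=(let e:=(d (Q 0)<|d (Q 0)<|d (Q 0)<|d (Q 0)<|d (Q 0)<|e);
 (d (Q 0)<|d (W 0)<|d (W 1)<|d (Q 0)<|e));
 (let e:=(d (Q 54)<|d (Q 0)<|d (Q 0)<|d (Q 1)<|d (Q 0)<|e);
 (f (W 193049)<|f (W 89)<|f (Q 6)<|f (Q 6)<|e))))<|
 e));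
 (let e:=(l (let e:=(let e:=(let e:=(d (Q 0)<|d (W 14)<|d (Q 3)<|d (Q 9)<|d (Q 0)<|h);
 (d (Q 0)<|d (Q 0)<|d (W 2)<|d (W 2)<|d (W 110)<|e));
 (let e:=(d (W 2)<|d (W 1)<|d (Q 0)<|d (Q 3)<|d (Q 0)<|e);
 (d (Q 0)<|d (Q 0)<|d (Q 0)<|
 d (Q 0)<|e)));
 (let e:=(let e:=(d (Q 0)<|d (Q 3)<|d (Q 0)<|d (Q 0)<|d (Q 0)<|e);
 (d (Q 0)<|d (Q 1)<|d (Q 1)<|d (W 0)<|e));
 (let e:=(d (Q 0)<|d (W 0)<|d (Q 0)<|d (Q 0)<|d (Q 0)<|e);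
 (f (W 104246)<|f (W 566)<|f (Q 9)<|f (Q 0)<|e))))<|
 l (let e:=(let e:=(let e:=(d (W 17)<|d (W 3)<|d (Q 12)<|d (W 27)<|d (W 944)<|h);
 (d (W 0)<|d (Q 15)<|d (Q 0)<|d (W 3)<|d (W 83)<|e));
 (let e:=(d (Q 0)<|d (Q 0)<|d (W 0)<|d (Q 0)<|d (W 0)<|e);
 (d (Q 0)<|d (Q 0)<|d (Q 0)<|
 d (Q 0)<|e)));
 (let e:=(let e:=(d (Q 0)<|d (W 2)<|d (Q 0)<|d (Q 0)<|d (Q 0)<|e);
 (d (Q 0)<|d (Q 0)<|d (Q 0)<|d (Q 1)<|e));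
 (let e:=(d (Q 27)<|d (Q 2)<|d (Q 0)<|d (W 0)<|d (Q 1)<|e);
 (f (W 108107)<|f (Q 180)<|f (Q 4)<|f (Q 3)<|e))))<|
 l (let e:=(let e:=(let e:=(d (Q 0)<|d (Q 0)<|d (Q 9)<|d (W 63)<|d (Q 756)<|h);
 (d (Q 0)<|d (W 11)<|d (Q 0)<|d (Q 0)<|d (Q 0)<|e));
 (let e:=(d (Q 0)<|d (Q 0)<|d (Q 0)<|d (Q 1)<|d (Q 2)<|e);
 (d (Q 0)<|d (Q 0)<|d (Q 0)<|
 d (Q 0)<|e)));
 (let e:=(let e:=(d (Q 1)<|d (Q 4)<|d (Q 0)<|d (W 0)<|d (Q 0)<|e);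
 (d (Q 0)<|d (Q 0)<|d (Q 0)<|d (Q 0)<|e));
 (let e:=(d (W 53)<|d (Q 1)<|d (Q 0)<|d (W 3)<|d (Q 0)<|e);
 (f (W 133055)<|f (Q 576)<|f (Q 0)<|f (W 5)<|e))))<|
 l (let e:=(let e:=(let e:=(d (Q 18)<|d (W 2)<|d (Q 0)<|d (Q 25)<|d (W 755)<|h);
 (d (Q 0)<|d (Q 12)<|d (Q 0)<|d (W 2)<|d (Q 21)<|e));
 (let e:=(d (Q 3)<|d (Q 2)<|d (Q 0)<|d (Q 0)<|d (Q 1)<|e);
 (d (Q 0)<|d (Q 0)<|d (Q 0)<|
 d (Q 0)<|e)));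
 (let e:=(let e:=(d (W 0)<|d (Q 5)<|d (Q 0)<|d (Q 0)<|d (Q 0)<|e);
 (d (Q 0)<|d (Q 0)<|d (W 2)<|d (Q 1)<|e));
 (let e:=(d (W 26)<|d (Q 0)<|d (Q 0)<|d (Q 4)<|d (W 0)<|e);
 (f (W 135134)<|f (Q 225)<|f (Q 17)<|f (W 2)<|e))))<|
 l (let e:=(let e:=(let e:=(d (W 7)<|d (Q 0)<|d (W 5)<|d (Q 0)<|d (Q 336)<|h);
 (d (Q 0)<|d (Q 16)<|d (Q 0)<|d (Q 0)<|d (Q 0)<|e));
 (let e:=(d (Q 0)<|d (Q 0)<|d (Q 0)<|d (W 1)<|d (Q 0)<|e);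
 (d (Q 0)<|d (Q 0)<|d (W 2)<|
 d (W 1)<|e)));
 (let e:=(let e:=(d (Q 1)<|d (Q 4)<|d (Q 0)<|d (Q 0)<|d (Q 0)<|e);
 (d (Q 1)<|d (Q 0)<|d (Q 0)<|d (Q 0)<|e));
 (let e:=(d (W 59)<|d (Q 0)<|d (Q 0)<|d (Q 0)<|d (Q 0)<|e);
 (f (W 139775)<|f (W 511)<|f (Q 0)<|f (Q 4)<|e))))<|
 e);
 (l (let e:=(let e:=(let e:=(d (Q 6)<|d (W 1)<|d (Q 0)<|d (Q 10)<|d (W 1034)<|h);
 (d (W 0)<|d (W 26)<|d (Q 1)<|d (Q 2)<|d (W 89)<|e));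
 (let e:=(d (Q 0)<|d (Q 0)<|d (Q 1)<|d (Q 0)<|d (Q 1)<|e);
 (d (Q 0)<|d (Q 0)<|d (Q 0)<|d (Q 0)<|
 e)));
 (let e:=(let e:=(d (Q 0)<|d (Q 0)<|d (Q 0)<|d (Q 0)<|d (Q 1)<|e);
 (d (Q 0)<|d (Q 1)<|d (W 1)<|d (Q 0)<|e));
 (let e:=(d (W 8)<|d (Q 0)<|d (Q 0)<|d (Q 1)<|d (Q 1)<|e);
 (f (W 64349)<|f (W 29)<|f (W 13)<|f (Q 3)<|e))))<|
 l (let e:=(let e:=(let e:=(d (W 1)<|d (Q 1)<|d (Q 0)<|d (Q 5)<|d (W 734)<|h);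
 (d (Q 1)<|d (Q 1)<|d (Q 0)<|d (Q 1)<|d (Q 105)<|e));
 (let e:=(d (Q 3)<|d (Q 2)<|d (Q 1)<|d (Q 0)<|d (W 0)<|e);
 (d (Q 0)<|d (Q 0)<|d (Q 0)<|
 d (Q 1)<|e)));
 (let e:=(let e:=(d (Q 0)<|d (Q 0)<|d (Q 0)<|d (Q 0)<|d (Q 0)<|e);
 (d (Q 0)<|d (Q 0)<|d (Q 1)<|d (Q 0)<|e));
 (let e:=(d (Q 3)<|d (Q 0)<|d (Q 0)<|d (W 6)<|d (Q 1)<|e);
 (f (W 75074)<|f (W 514)<|f (Q 13)<|f (W 4)<|e))))<|
 l (let e:=(let e:=(let e:=(d (W 1)<|d (Q 1)<|d (Q 0)<|d (Q 5)<|d (Q 210)<|h);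
 (d (W 1)<|d (W 13)<|d (Q 0)<|d (Q 1)<|d (Q 105)<|e));
 (let e:=(d (Q 3)<|d (Q 2)<|d (W 1)<|d (Q 0)<|d (W 0)<|e);
 (d (Q 0)<|d (Q 0)<|d (Q 3)<|
 d (Q 1)<|e)));
 (let e:=(let e:=(d (Q 0)<|d (Q 0)<|d (Q 0)<|d (Q 0)<|d (Q 0)<|e);
 (d (Q 0)<|d (Q 0)<|d (Q 1)<|d (Q 0)<|e));
 (let e:=(d (W 50)<|d (Q 0)<|d (Q 0)<|d (Q 2)<|d (Q 1)<|e);
 (f (W 75074)<|f (W 514)<|f (Q 13)<|f (Q 1)<|e))))<|
 l (let e:=(let e:=(let e:=(d (Q 14)<|d (Q 8)<|d (Q 0)<|d (W 39)<|d (Q 510)<|h);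
 (d (Q 0)<|d (Q 14)<|d (W 0)<|d (Q 0)<|d (W 119)<|e));
 (let e:=(d (Q 0)<|d (Q 0)<|d (Q 2)<|d (Q 0)<|d (W 0)<|e);
 (d (Q 0)<|d (Q 0)<|d (Q 3)<|d (Q 2)<|
 e)));
 (let e:=(let e:=(d (Q 0)<|d (Q 0)<|d (Q 0)<|d (Q 0)<|d (W 0)<|e);
 (d (Q 0)<|d (W 0)<|d (Q 0)<|d (Q 0)<|e));
 (let e:=(d (W 38)<|d (Q 0)<|d (Q 0)<|d (Q 2)<|d (Q 1)<|e);
 (f (W 85799)<|f (W 39)<|f (W 7)<|f (Q 5)<|e))))<|
 e)));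
 (let e:=(let e:=(l (let e:=(let e:=(let e:=(d (Q 0)<|d (W 10)<|d (Q 3)<|d (W 18)<|d (Q 189)<|h);
 (d (Q 1)<|d (W 2)<|d (Q 0)<|d (Q 1)<|d (Q 21)<|e));
 (let e:=(d (W 2)<|d (W 1)<|d (Q 1)<|d (W 0)<|d (Q 2)<|e);
 (d (Q 0)<|d (Q 0)<|d (Q 0)<|
 d (Q 0)<|e)));
 (let e:=(let e:=(d (W 0)<|d (W 6)<|d (Q 0)<|d (Q 0)<|d (Q 0)<|e);
 (d (Q 0)<|d (Q 0)<|d (Q 1)<|d (Q 1)<|e));
 (let e:=(d (W 53)<|d (Q 1)<|d (Q 0)<|d (Q 5)<|d (Q 0)<|e);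
 (f (W 27026)<|f (W 530)<|f (W 2)<|f (W 5)<|e))))<|
 l (let e:=(let e:=(let e:=(d (W 17)<|d (Q 0)<|d (W 2)<|d (W 55)<|d (W 755)<|h);
 (d (Q 0)<|d (Q 12)<|d (Q 3)<|d (Q 0)<|d (Q 48)<|e));
 (let e:=(d (Q 0)<|d (Q 0)<|d (Q 0)<|d (Q 1)<|d (Q 1)<|e);
 (d (Q 0)<|d (Q 0)<|d (Q 0)<|
 d (Q 0)<|e)));
 (let e:=(let e:=(d (W 0)<|d (Q 2)<|d (Q 0)<|d (Q 0)<|d (Q 0)<|e);
 (d (Q 0)<|d (W 0)<|d (Q 0)<|d (W 1)<|e));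
 (let e:=(d (W 26)<|d (W 0)<|d (Q 0)<|d (Q 4)<|d (Q 1)<|e);
 (f (W 30887)<|f (Q 216)<|f (W 7)<|f (W 2)<|e))))<|
 l (let e:=(let e:=(let e:=(d (Q 2)<|d (Q 0)<|d (Q 0)<|d (Q 20)<|d (W 419)<|h);
 (d (Q 0)<|d (W 3)<|d (Q 3)<|d (Q 0)<|d (W 119)<|e));
 (let e:=(d (W 5)<|d (Q 4)<|d (Q 0)<|d (Q 0)<|d (W 0)<|e);
 (d (Q 0)<|d (Q 0)<|d (Q 0)<|
 d (W 0)<|e)));
 (let e:=(let e:=(d (Q 0)<|d (Q 0)<|d (Q 0)<|d (Q 0)<|d (Q 0)<|e);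
 (d (Q 0)<|d (W 0)<|d (Q 0)<|d (Q 0)<|e));
 (let e:=(d (W 32)<|d (Q 0)<|d (Q 0)<|d (W 3)<|d (W 0)<|e);
 (f (W 42899)<|f (W 339)<|f (W 3)<|f (W 0)<|e))))<|
 l (let e:=(let e:=(let e:=(d (Q 18)<|d (W 6)<|d (Q 0)<|d (W 54)<|d (W 944)<|h);
 (d (W 0)<|d (Q 15)<|d (Q 0)<|d (Q 5)<|d (Q 105)<|e));
 (let e:=(d (W 2)<|d (W 1)<|d (W 0)<|d (Q 0)<|d (W 0)<|e);
 (d (Q 0)<|d (Q 0)<|d (Q 0)<|
 d (Q 0)<|e)));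
 (let e:=(let e:=(d (Q 0)<|d (Q 0)<|d (Q 0)<|d (W 0)<|d (Q 0)<|e);
 (d (Q 0)<|d (Q 0)<|d (Q 1)<|d (Q 0)<|e));
 (let e:=(d (Q 27)<|d (Q 0)<|d (Q 0)<|d (W 0)<|d (W 0)<|e);
 (f (W 51974)<|f (W 134)<|f (W 6)<|f (Q 3)<|e))))<|
 l (let e:=(let e:=(let e:=(d (W 7)<|d (W 3)<|d (Q 0)<|d (Q 20)<|d (W 20)<|h);
 (d (Q 1)<|d (W 4)<|d (Q 0)<|d (Q 4)<|d (W 83)<|e));
 (let e:=(d (Q 0)<|d (Q 0)<|d (W 0)<|d (Q 0)<|d (W 3)<|e);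
 (d (Q 0)<|d (Q 0)<|d (Q 0)<|
 d (Q 1)<|e)));
 (let e:=(let e:=(d (W 0)<|d (Q 5)<|d (Q 0)<|d (Q 0)<|d (Q 0)<|e);
 (d (Q 0)<|d (Q 0)<|d (Q 0)<|d (Q 1)<|e));
 (let e:=(d (W 29)<|d (Q 0)<|d (Q 0)<|d (W 0)<|d (Q 0)<|e);
 (f (W 60059)<|f (Q 100)<|f (W 11)<|f (W 1)<|e))))<|
 e);
 (l (let e:=(let e:=(let e:=(d (Q 0)<|d (Q 2)<|d (W 8)<|d (W 65)<|d (W 728)<|h);
 (d (Q 1)<|d (W 8)<|d (Q 2)<|d (W 1)<|d (W 53)<|e));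
 (let e:=(d (Q 0)<|d (Q 0)<|d (W 0)<|d (W 0)<|d (Q 0)<|e);
 (d (Q 0)<|d (Q 0)<|d (Q 0)<|d (Q 0)<|
 e)));
 (let e:=(let e:=(d (Q 1)<|d (Q 1)<|d (Q 0)<|d (Q 0)<|d (W 0)<|e);
 (d (W 0)<|d (Q 2)<|d (Q 2)<|d (Q 1)<|e));
 (let e:=(d (Q 0)<|d (W 0)<|d (Q 0)<|d (Q 3)<|d (Q 0)<|e);
 (f (W 18953)<|f (Q 54)<|f (Q 6)<|f (Q 0)<|e))))<|
 l (let e:=(let e:=(let e:=(d (Q 8)<|d (Q 10)<|d (Q 0)<|d (W 49)<|d (W 614)<|h);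
 (d (Q 1)<|d (W 6)<|d (W 1)<|d (W 1)<|d (W 29)<|e));
 (let e:=(d (Q 0)<|d (Q 0)<|d (Q 1)<|d (Q 0)<|d (W 1)<|e);
 (d (Q 0)<|d (Q 0)<|d (Q 0)<|d (W 0)<|
 e)));
 (let e:=(let e:=(d (Q 0)<|d (Q 0)<|d (Q 0)<|d (Q 0)<|d (Q 1)<|e);
 (d (Q 0)<|d (W 1)<|d (Q 2)<|d (Q 0)<|e));
 (let e:=(d (Q 24)<|d (Q 0)<|d (Q 0)<|d (Q 1)<|d (Q 0)<|e);
 (f (W 21449)<|f (W 9)<|f (Q 6)<|f (W 3)<|e))))<|
 l (let e:=(let e:=(let e:=(d (Q 8)<|d (W 7)<|d (Q 0)<|d (W 19)<|d (Q 210)<|h);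
 (d (Q 0)<|d (Q 2)<|d (Q 0)<|d (Q 0)<|d (Q 0)<|e));
 (let e:=(d (Q 6)<|d (W 3)<|d (W 1)<|d (Q 0)<|d (W 1)<|e);
 (d (Q 0)<|d (Q 0)<|d (Q 0)<|
 d (W 0)<|e)));
 (let e:=(let e:=(d (Q 0)<|d (Q 0)<|d (Q 0)<|d (Q 1)<|d (Q 0)<|e);
 (d (Q 0)<|d (Q 0)<|d (Q 0)<|d (Q 0)<|e));
 (let e:=(d (W 23)<|d (Q 0)<|d (Q 0)<|d (W 1)<|d (Q 0)<|e);
 (f (W 23099)<|f (Q 260)<|f (W 11)<|f (W 3)<|e))))<|
 l (let e:=(let e:=(let e:=(d (Q 2)<|d (Q 16)<|d (Q 6)<|d (W 39)<|d (Q 294)<|h);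
 (d (Q 0)<|d (W 9)<|d (Q 0)<|d (Q 0)<|d (Q 0)<|e));
 (let e:=(d (Q 0)<|d (Q 0)<|d (W 1)<|d (Q 2)<|d (W 0)<|e);
 (d (Q 0)<|d (Q 0)<|d (W 2)<|d (W 0)<|
 e)));
 (let e:=(let e:=(d (W 0)<|d (W 3)<|d (Q 0)<|d (Q 0)<|d (Q 0)<|e);
 (d (Q 0)<|d (Q 0)<|d (Q 0)<|d (Q 0)<|e));
 (let e:=(d (W 38)<|d (Q 0)<|d (Q 0)<|d (Q 2)<|d (W 0)<|e);
 (f (W 24023)<|f (W 87)<|f (Q 8)<|f (Q 5)<|e))))<|
 e));
 (let e:=(l (let e:=(let e:=(let e:=(d (Q 2)<|d (W 3)<|d (W 5)<|d (W 19)<|d (W 140)<|h);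
 (d (W 0)<|d (W 12)<|d (W 0)<|d (W 3)<|d (W 35)<|e));
 (let e:=(d (Q 0)<|d (Q 0)<|d (W 0)<|d (W 1)<|d (Q 1)<|e);
 (d (Q 0)<|d (Q 0)<|d (Q 3)<|d (W 0)<|
 e)));
 (let e:=(let e:=(d (W 0)<|d (W 0)<|d (Q 0)<|d (Q 0)<|d (W 0)<|e);
 (d (Q 0)<|d (W 0)<|d (Q 0)<|d (W 0)<|e));
 (let e:=(d (Q 3)<|d (Q 0)<|d (Q 0)<|d (W 4)<|d (W 0)<|e);
 (f (W 1715)<|f (W 51)<|f (W 3)<|f (W 0)<|e))))<|
 l (let e:=(let e:=(let e:=(d (W 13)<|d (W 0)<|d (W 14)<|d (W 48)<|d (W 209)<|h);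
 (d (Q 0)<|d (W 1)<|d (W 2)<|d (Q 3)<|d (Q 15)<|e));
 (let e:=(d (Q 3)<|d (Q 2)<|d (Q 2)<|d (Q 1)<|d (W 0)<|e);
 (d (Q 0)<|d (Q 0)<|d (Q 3)<|d (W 1)<|
 e)));
 (let e:=(let e:=(d (Q 0)<|d (Q 0)<|d (Q 0)<|d (Q 0)<|d (Q 0)<|e);
 (d (Q 0)<|d (Q 1)<|d (W 0)<|d (Q 0)<|e));
 (let e:=(d (W 2)<|d (Q 1)<|d (Q 0)<|d (Q 2)<|d (W 0)<|e);
 (f (W 2144)<|f (Q 31)<|f (W 0)<|f (Q 1)<|e))))<|
 l (let e:=(let e:=(let e:=(d (W 13)<|d (Q 5)<|d (W 2)<|d (W 10)<|d (W 104)<|h);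
 (d (Q 1)<|d (Q 7)<|d (Q 0)<|d (Q 1)<|d (Q 21)<|e));
 (let e:=(d (W 2)<|d (W 1)<|d (W 0)<|d (Q 1)<|d (Q 1)<|e);
 (d (Q 0)<|d (Q 0)<|d (Q 3)<|d (Q 1)<|
 e)));
 (let e:=(let e:=(d (Q 0)<|d (W 2)<|d (Q 0)<|d (Q 0)<|d (Q 0)<|e);
 (d (Q 0)<|d (Q 0)<|d (W 2)<|d (Q 1)<|e));
 (let e:=(d (W 14)<|d (W 0)<|d (Q 0)<|d (W 4)<|d (W 0)<|e);
 (f (W 3002)<|f (W 58)<|f (Q 5)<|f (Q 1)<|e))))<|
 l (let e:=(let e:=(let e:=(d (Q 14)<|d (Q 2)<|d (Q 0)<|d (W 9)<|d (W 68)<|h);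
 (d (Q 1)<|d (Q 11)<|d (Q 1)<|d (W 1)<|d (W 5)<|e));
 (let e:=(d (Q 0)<|d (Q 0)<|d (W 0)<|d (Q 0)<|d (W 0)<|e);
 (d (Q 0)<|d (Q 0)<|d (Q 3)<|d (W 0)<|
 e)));
 (let e:=(let e:=(d (Q 1)<|d (W 4)<|d (Q 0)<|d (Q 0)<|d (Q 1)<|e);
 (d (Q 0)<|d (Q 1)<|d (W 1)<|d (W 0)<|e));
 (let e:=(d (W 32)<|d (Q 0)<|d (Q 0)<|d (W 0)<|d (Q 1)<|e);
 (f (W 4289)<|f (W 129)<|f (W 1)<|f (W 0)<|e))))<|
 l (let e:=(let e:=(let e:=(d (Q 8)<|d (Q 0)<|d (W 14)<|d (W 63)<|d (W 419)<|h);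
 (d (Q 0)<|d (W 3)<|d (Q 0)<|d (Q 0)<|d (Q 0)<|e));
 (let e:=(d (Q 0)<|d (Q 0)<|d (Q 0)<|d (Q 1)<|d (Q 2)<|e);
 (d (Q 0)<|d (Q 0)<|d (W 2)<|d (Q 2)<|
 e)));
 (let e:=(let e:=(d (Q 0)<|d (Q 0)<|d (Q 0)<|d (Q 1)<|d (Q 0)<|e);
 (d (Q 1)<|d (Q 0)<|d (Q 0)<|d (Q 0)<|e));
 (let e:=(d (W 5)<|d (Q 1)<|d (Q 0)<|d (W 3)<|d (Q 0)<|e);
 (f (W 6719)<|f (W 63)<|f (Q 0)<|f (Q 2)<|e))))<|
 e);
 (f (let e:=(let e:=(let e:=(d (W 1)<|d (Q 2)<|d (W 5)<|d (W 9)<|d (W 20)<|h);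
 (d (Q 1)<|d (W 4)<|d (W 2)<|d (W 1)<|d (W 5)<|e));
 (let e:=(d (Q 0)<|
 d (Q 0)<|d (W 0)<|d (W 1)<|d (W 0)<|e);
 (d (Q 0)<|d (Q 0)<|d (W 2)<|d (Q 1)<|e)));
 (let e:=(let e:=(d (W 0)<|d (W 0)<|d (Q 0)<|d (W 0)<|d (Q 0)<|e);
 (d (Q 0)<|d (Q 1)<|d (W 1)<|d (W 0)<|e));
 (let e:=(d (W 2)<|d (Q 0)<|d (Q 0)<|d (W 0)<|d (Q 1)<|e);
 (f (W 65)<|f (W 1)<|f (W 1)<|f (Q 1)<|e))))<|
 f (let e:=(let e:=(let e:=(d (Q 4)<|d (W 1)<|d (W 2)<|d (W 5)<|d (W 14)<|h);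
 (d (W 0)<|d (Q 1)<|d (W 0)<|d (Q 2)<|d (Q 6)<|e));
 (let e:=(d (Q 0)<|d (Q 0)<|d (Q 1)<|d (Q 1)<|d (Q 0)<|e);
 (d (Q 0)<|d (Q 0)<|d (W 2)<|d (W 1)<|
 e)));
 (let e:=(let e:=(d (Q 0)<|d (W 2)<|d (Q 0)<|d (Q 0)<|d (W 0)<|e);
 (d (W 0)<|d (W 0)<|d (W 1)<|d (Q 1)<|e));
 (let e:=(d (W 5)<|d (W 0)<|d (Q 0)<|d (W 2)<|d (Q 2)<|e);
 (f (W 77)<|f (W 13)<|f (Q 2)<|f (W 1)<|e))))<|
 f (let e:=(let e:=(let e:=(d (W 7)<|d (W 0)<|d (W 8)<|d (W 20)<|d (W 68)<|h);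
 (d (W 0)<|d (W 4)<|d (W 1)<|d (W 0)<|d (W 8)<|e));
 (let e:=(d (W 2)<|d (W 1)<|d (W 0)<|d (W 0)<|d (Q 0)<|e);
 (d (Q 0)<|d (Q 0)<|d (Q 0)<|d (Q 1)<|
 e)));
 (let e:=(let e:=(d (Q 1)<|d (Q 1)<|d (Q 0)<|d (Q 0)<|d (Q 1)<|e);
 (d (Q 0)<|d (W 1)<|d (W 0)<|d (Q 1)<|e));
 (let e:=(d (W 5)<|d (W 0)<|d (Q 0)<|d (Q 3)<|d (Q 0)<|e);
 (f (W 428)<|f (Q 19)<|f (Q 3)<|f (W 1)<|e))))<|
 f (let e:=(let e:=(let e:=(d (W 3)<|d (W 4)<|d (Q 0)<|d (W 4)<|d (Q 21)<|h);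
 (d (W 0)<|d (Q 5)<|d (Q 0)<|d (W 0)<|d (W 20)<|e));
 (let e:=(d (Q 3)<|d (Q 2)<|d (Q 1)<|d (Q 0)<|d (W 1)<|e);
 (d (Q 0)<|d (Q 0)<|d (W 2)<|d (Q 2)<|
 e)));
 (let e:=(let e:=(d (Q 1)<|d (W 4)<|d (Q 0)<|d (Q 0)<|d (Q 0)<|e);
 (d (W 0)<|d (Q 0)<|d (W 0)<|d (W 0)<|e));
 (let e:=(d (W 23)<|d (Q 0)<|d (Q 0)<|d (Q 1)<|d (W 1)<|e);
 (f (W 1364)<|f (W 84)<|f (W 4)<|f (W 3)<|e))))<|
 e)))))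

/-- the faithful rows at a multiple -/
def fr2 : List (List ℤ) := (beta% delta% lq26d4b3e7c8 fun d f _ h _ l _ _ _ _ _ =>
 (let e:=(let e:=(let e:=(l (let e:=(let e:=(let e:=(d (Q 0)<|d (W 1)<|d (W 8)<|d (W 5)<|d (Q 729)<|h);
 (d (W 0)<|d (Q 9)<|d (Q 1)<|d (Q 2)<|d (W 89)<|e));
 (let e:=(d (Q 0)<|d (Q 0)<|d (Q 1)<|d (W 0)<|d (Q 0)<|e);
 (d (Q 0)<|d (Q 0)<|d (Q 0)<|
 d (Q 0)<|e)));
 (let e:=(let e:=(d (W 0)<|d (W 3)<|d (Q 0)<|d (Q 0)<|d (Q 1)<|e);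
 (d (Q 0)<|d (Q 1)<|d (Q 2)<|d (Q 0)<|e));
 (let e:=(d (Q 0)<|d (W 0)<|d (Q 0)<|d (W 2)<|d (Q 0)<|e);
 (f (W 208493)<|f (Q 594)<|f (Q 18)<|f (Q 0)<|e))))<|
 l (let e:=(let e:=(let e:=(d (Q 0)<|d (Q 7)<|d (Q 0)<|d (W 24)<|d (Q 630)<|h);
 (d (Q 0)<|d (Q 6)<|d (Q 0)<|d (Q 3)<|d (W 104)<|e));
 (let e:=(d (W 5)<|d (W 0)<|d (W 1)<|d (Q 0)<|d (Q 2)<|e);
 (d (Q 0)<|d (Q 0)<|d (Q 0)<|
 d (Q 0)<|e)));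
 (let e:=(let e:=(d (Q 0)<|d (Q 0)<|d (Q 0)<|d (Q 0)<|d (Q 0)<|e);
 (d (Q 0)<|d (Q 0)<|d (W 0)<|d (Q 0)<|e));
 (let e:=(d (Q 90)<|d (Q 0)<|d (Q 0)<|d (Q 2)<|d (Q 0)<|e);
 (f (W 225224)<|f (W 584)<|f (W 8)<|f (W 5)<|e))))<|
 l (let e:=(let e:=(let e:=(d (Q 0)<|d (Q 9)<|d (W 14)<|d (Q 81)<|d (Q 0)<|h);
 (d (Q 0)<|d (Q 0)<|d (Q 0)<|d (W 2)<|d (Q 105)<|e));
 (let e:=(d (Q 6)<|d (Q 1)<|d (Q 0)<|d (Q 1)<|d (Q 0)<|e);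
 (d (Q 0)<|d (Q 0)<|d (Q 0)<|
 d (Q 0)<|e)));
 (let e:=(let e:=(d (Q 0)<|d (Q 0)<|d (Q 0)<|d (Q 0)<|d (Q 0)<|e);
 (d (Q 2)<|d (Q 0)<|d (Q 1)<|d (Q 0)<|e));
 (let e:=(d (Q 0)<|d (Q 1)<|d (Q 0)<|d (Q 0)<|d (Q 0)<|e);
 (f (W 331694)<|f (Q 81)<|f (W 14)<|f (Q 0)<|e))))<|
 l (let e:=(let e:=(let e:=(d (Q 0)<|d (Q 14)<|d (Q 0)<|d (W 9)<|d (Q 90)<|h);
 (d (W 1)<|d (W 5)<|d (Q 2)<|d (W 1)<|d (Q 30)<|e));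
 (let e:=(d (Q 12)<|d (Q 2)<|d (Q 2)<|d (Q 0)<|d (W 3)<|e);
 (d (Q 0)<|d (Q 0)<|d (Q 0)<|d (Q 0)<|
 e)));
 (let e:=(let e:=(d (Q 0)<|d (Q 0)<|d (Q 0)<|d (Q 0)<|d (W 0)<|e);
 (d (W 3)<|d (Q 2)<|d (W 1)<|d (Q 0)<|e));
 (let e:=(d (Q 36)<|d (Q 0)<|d (Q 0)<|d (Q 2)<|d (Q 0)<|e);
 (f (W 5849)<|f (W 89)<|f (Q 6)<|f (W 11)<|e))))<|
 l (let e:=(let e:=(let e:=(d (Q 0)<|d (W 5)<|d (W 5)<|d (Q 18)<|d (Q 0)<|h);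
 (d (Q 0)<|d (Q 0)<|d (Q 0)<|d (W 5)<|d (Q 42)<|e));
 (let e:=(d (W 11)<|d (W 1)<|d (Q 0)<|d (Q 2)<|d (Q 0)<|e);
 (d (Q 0)<|d (Q 0)<|d (Q 0)<|
 d (Q 0)<|e)));
 (let e:=(let e:=(d (Q 0)<|d (W 5)<|d (Q 0)<|d (W 0)<|d (Q 0)<|e);
 (d (W 3)<|d (Q 0)<|d (Q 2)<|d (Q 2)<|e));
 (let e:=(d (Q 0)<|d (W 1)<|d (Q 0)<|d (Q 0)<|d (Q 0)<|e);
 (f (W 10205)<|f (Q 162)<|f (W 29)<|f (Q 0)<|e))))<|h);
 (l (let e:=(let e:=(let e:=(d (Q 0)<|d (Q 0)<|d (Q 15)<|d (W 35)<|d (Q 0)<|h);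
 (d (Q 0)<|d (Q 0)<|d (W 2)<|d (Q 0)<|d (Q 120)<|e));
 (let e:=(d (Q 12)<|d (W 1)<|d (Q 0)<|d (W 0)<|d (Q 0)<|e);
 (d (Q 0)<|d (Q 0)<|d (Q 0)<|
 d (Q 0)<|e)));
 (let e:=(let e:=(d (Q 0)<|d (Q 0)<|d (Q 0)<|d (Q 1)<|d (Q 0)<|e);
 (d (Q 0)<|d (Q 1)<|d (Q 0)<|d (Q 0)<|e));
 (let e:=(d (Q 0)<|d (W 0)<|d (Q 0)<|d (Q 0)<|d (Q 0)<|e);
 (f (W 160379)<|f (Q 324)<|f (W 11)<|f (Q 0)<|e))))<|
 l (let e:=(let e:=(let e:=(d (W 14)<|d (Q 8)<|d (Q 15)<|d (Q 4)<|d (W 629)<|h);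
 (d (Q 0)<|d (W 5)<|d (Q 0)<|d (Q 0)<|d (Q 0)<|e));
 (let e:=(d (W 11)<|d (Q 2)<|d (Q 2)<|d (W 0)<|d (Q 1)<|e);
 (d (Q 0)<|d (Q 0)<|d (Q 0)<|
 d (Q 0)<|e)));
 (let e:=(let e:=(d (Q 0)<|d (Q 0)<|d (Q 0)<|d (Q 0)<|d (Q 0)<|e);
 (d (Q 0)<|d (Q 0)<|d (Q 0)<|d (Q 0)<|e));
 (let e:=(d (W 8)<|d (W 0)<|d (Q 0)<|d (W 1)<|d (W 0)<|e);
 (f (W 180179)<|f (W 275)<|f (W 3)<|f (Q 3)<|e))))<|
 l (let e:=(let e:=(let e:=(d (Q 0)<|d (W 3)<|d (Q 0)<|d (Q 60)<|d (W 728)<|h);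
 (d (Q 1)<|d (W 8)<|d (W 0)<|d (Q 4)<|d (W 35)<|e));
 (let e:=(d (Q 0)<|d (Q 0)<|d (W 0)<|d (Q 0)<|d (Q 0)<|e);
 (d (Q 0)<|d (Q 0)<|d (Q 0)<|
 d (Q 0)<|e)));
 (let e:=(let e:=(d (Q 1)<|d (W 4)<|d (Q 0)<|d (Q 0)<|d (W 0)<|e);
 (d (W 1)<|d (W 0)<|d (Q 0)<|d (W 0)<|e));
 (let e:=(d (Q 0)<|d (Q 0)<|d (Q 0)<|d (Q 3)<|d (Q 0)<|e);
 (f (W 189539)<|f (Q 540)<|f (Q 12)<|f (Q 0)<|e))))<|
 l (let e:=(let e:=(let e:=(d (Q 0)<|d (W 13)<|d (Q 0)<|d (W 49)<|d (Q 945)<|h);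
 (d (Q 1)<|d (W 14)<|d (Q 3)<|d (W 1)<|d (Q 90)<|e));
 (let e:=(d (Q 0)<|d (Q 0)<|d (Q 1)<|d (Q 0)<|d (W 1)<|e);
 (d (Q 0)<|d (Q 0)<|d (Q 0)<|
 d (Q 0)<|e)));
 (let e:=(let e:=(d (Q 0)<|d (Q 0)<|d (Q 0)<|d (Q 0)<|d (Q 0)<|e);
 (d (Q 0)<|d (W 0)<|d (W 1)<|d (Q 0)<|e));
 (let e:=(d (Q 54)<|d (Q 0)<|d (Q 0)<|d (Q 1)<|d (Q 0)<|e);
 (f (W 193049)<|f (W 89)<|f (Q 6)<|f (Q 6)<|e))))<|
 e));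
 (let e:=(l (let e:=(let e:=(let e:=(d (Q 0)<|d (W 14)<|d (Q 3)<|d (Q 9)<|d (Q 0)<|h);
 (d (Q 0)<|d (Q 0)<|d (W 2)<|d (W 2)<|d (W 110)<|e));
 (let e:=(d (Q 6)<|d (Q 1)<|d (Q 0)<|d (Q 3)<|d (Q 0)<|e);
 (d (Q 0)<|d (Q 0)<|d (Q 0)<|
 d (Q 0)<|e)));
 (let e:=(let e:=(d (Q 0)<|d (Q 3)<|d (Q 0)<|d (Q 0)<|d (Q 0)<|e);
 (d (Q 0)<|d (Q 1)<|d (Q 1)<|d (W 0)<|e));
 (let e:=(d (Q 0)<|d (W 0)<|d (Q 0)<|d (Q 0)<|d (Q 0)<|e);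
 (f (W 104246)<|f (W 566)<|f (Q 9)<|f (Q 0)<|e))))<|
 l (let e:=(let e:=(let e:=(d (Q 9)<|d (W 3)<|d (Q 12)<|d (W 27)<|d (W 944)<|h);
 (d (W 0)<|d (Q 15)<|d (Q 0)<|d (W 3)<|d (W 83)<|e));
 (let e:=(d (Q 0)<|d (Q 0)<|d (W 0)<|d (Q 0)<|d (W 0)<|e);
 (d (Q 0)<|d (Q 0)<|d (Q 0)<|
 d (Q 0)<|e)));
 (let e:=(let e:=(d (Q 0)<|d (W 2)<|d (Q 0)<|d (Q 0)<|d (Q 0)<|e);
 (d (Q 0)<|d (Q 0)<|d (Q 0)<|d (Q 1)<|e));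
 (let e:=(d (Q 27)<|d (Q 2)<|d (Q 0)<|d (W 0)<|d (Q 1)<|e);
 (f (W 108107)<|f (Q 180)<|f (Q 4)<|f (Q 3)<|e))))<|
 l (let e:=(let e:=(let e:=(d (Q 0)<|d (Q 0)<|d (Q 9)<|d (W 63)<|d (Q 756)<|h);
 (d (Q 0)<|d (W 11)<|d (Q 0)<|d (Q 0)<|d (Q 0)<|e));
 (let e:=(d (Q 0)<|d (Q 0)<|d (Q 0)<|d (Q 1)<|d (Q 2)<|e);
 (d (Q 0)<|d (Q 0)<|d (Q 0)<|
 d (Q 0)<|e)));
 (let e:=(let e:=(d (Q 1)<|d (Q 4)<|d (Q 0)<|d (W 0)<|d (Q 0)<|e);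
 (d (Q 0)<|d (Q 0)<|d (Q 0)<|d (Q 0)<|e));
 (let e:=(d (W 53)<|d (Q 1)<|d (Q 0)<|d (W 3)<|d (Q 0)<|e);
 (f (W 133055)<|f (Q 576)<|f (Q 0)<|f (W 5)<|e))))<|
 l (let e:=(let e:=(let e:=(d (W 8)<|d (W 2)<|d (Q 0)<|d (Q 25)<|d (W 755)<|h);
 (d (Q 0)<|d (Q 12)<|d (Q 0)<|d (W 2)<|d (Q 21)<|e));
 (let e:=(d (W 5)<|d (W 0)<|d (Q 0)<|d (Q 0)<|d (Q 1)<|e);
 (d (Q 0)<|d (Q 0)<|d (Q 0)<|
 d (Q 0)<|e)));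
 (let e:=(let e:=(d (W 0)<|d (Q 5)<|d (Q 0)<|d (Q 0)<|d (Q 0)<|e);
 (d (Q 0)<|d (Q 0)<|d (W 2)<|d (Q 1)<|e));
 (let e:=(d (W 26)<|d (Q 0)<|d (Q 0)<|d (Q 4)<|d (W 0)<|e);
 (f (W 135134)<|f (Q 225)<|f (Q 17)<|f (W 2)<|e))))<|
 l (let e:=(let e:=(let e:=(d (Q 16)<|d (Q 0)<|d (W 5)<|d (Q 0)<|d (Q 336)<|h);
 (d (Q 0)<|d (Q 16)<|d (Q 0)<|d (Q 0)<|d (Q 0)<|e));
 (let e:=(d (Q 0)<|d (Q 0)<|d (Q 0)<|d (W 1)<|d (Q 0)<|e);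
 (d (Q 0)<|d (Q 0)<|d (Q 0)<|
 d (Q 1)<|e)));
 (let e:=(let e:=(d (Q 1)<|d (Q 4)<|d (Q 0)<|d (Q 0)<|d (Q 0)<|e);
 (d (W 1)<|d (Q 0)<|d (Q 0)<|d (Q 0)<|e));
 (let e:=(d (W 59)<|d (Q 0)<|d (Q 0)<|d (Q 0)<|d (Q 0)<|e);
 (f (W 139775)<|f (W 511)<|f (Q 0)<|f (Q 4)<|e))))<|
 e);
 (l (let e:=(let e:=(let e:=(d (Q 15)<|d (W 1)<|d (Q 0)<|d (Q 10)<|d (W 1034)<|h);
 (d (W 0)<|d (W 26)<|d (Q 1)<|d (Q 2)<|d (W 89)<|e));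
 (let e:=(d (Q 0)<|d (Q 0)<|d (Q 1)<|d (Q 0)<|d (Q 1)<|e);
 (d (Q 0)<|d (Q 0)<|d (Q 0)<|d (Q 0)<|
 e)));
 (let e:=(let e:=(d (Q 0)<|d (Q 0)<|d (Q 0)<|d (Q 0)<|d (Q 1)<|e);
 (d (Q 0)<|d (Q 1)<|d (W 1)<|d (Q 0)<|e));
 (let e:=(d (W 8)<|d (Q 0)<|d (Q 0)<|d (Q 1)<|d (Q 1)<|e);
 (f (W 64349)<|f (W 29)<|f (W 13)<|f (Q 3)<|e))))<|
 l (let e:=(let e:=(let e:=(d (Q 13)<|d (Q 1)<|d (Q 0)<|d (Q 5)<|d (W 734)<|h);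
 (d (Q 1)<|d (Q 1)<|d (Q 0)<|d (Q 1)<|d (Q 105)<|e));
 (let e:=(d (W 5)<|d (W 0)<|d (Q 1)<|d (Q 0)<|d (W 0)<|e);
 (d (Q 0)<|d (Q 0)<|d (Q 3)<|
 d (W 1)<|e)));
 (let e:=(let e:=(d (Q 0)<|d (Q 0)<|d (Q 0)<|d (Q 0)<|d (Q 0)<|e);
 (d (Q 0)<|d (Q 0)<|d (Q 1)<|d (Q 0)<|e));
 (let e:=(d (Q 3)<|d (Q 0)<|d (Q 0)<|d (W 6)<|d (Q 1)<|e);
 (f (W 75074)<|f (W 514)<|f (Q 13)<|f (W 4)<|e))))<|
 l (let e:=(let e:=(let e:=(d (W 4)<|d (Q 1)<|d (Q 0)<|d (Q 5)<|d (Q 210)<|h);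
 (d (W 1)<|d (W 13)<|d (Q 0)<|d (Q 1)<|d (Q 105)<|e));
 (let e:=(d (W 5)<|d (W 0)<|d (W 1)<|d (Q 0)<|d (W 0)<|e);
 (d (Q 0)<|d (Q 0)<|d (W 2)<|
 d (Q 1)<|e)));
 (let e:=(let e:=(d (Q 0)<|d (Q 0)<|d (Q 0)<|d (Q 0)<|d (Q 0)<|e);
 (d (Q 0)<|d (Q 0)<|d (Q 1)<|d (Q 0)<|e));
 (let e:=(d (W 50)<|d (Q 0)<|d (Q 0)<|d (Q 2)<|d (Q 1)<|e);
 (f (W 75074)<|f (W 514)<|f (Q 13)<|f (Q 1)<|e))))<|
 l (let e:=(let e:=(let e:=(d (W 0)<|d (Q 8)<|d (Q 0)<|d (W 39)<|d (Q 510)<|h);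
 (d (Q 0)<|d (Q 14)<|d (W 0)<|d (Q 0)<|d (W 119)<|e));
 (let e:=(d (Q 0)<|d (Q 0)<|d (Q 2)<|d (Q 0)<|d (W 0)<|e);
 (d (Q 0)<|d (Q 0)<|d (Q 0)<|d (W 0)<|
 e)));
 (let e:=(let e:=(d (Q 0)<|d (Q 0)<|d (Q 0)<|d (Q 0)<|d (W 0)<|e);
 (d (Q 0)<|d (W 0)<|d (Q 0)<|d (Q 0)<|e));
 (let e:=(d (W 38)<|d (Q 0)<|d (Q 0)<|d (Q 2)<|d (Q 1)<|e);
 (f (W 85799)<|f (W 39)<|f (W 7)<|f (Q 5)<|e))))<|
 e)));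
 (let e:=(let e:=(l (let e:=(let e:=(let e:=(d (Q 0)<|d (W 10)<|d (Q 3)<|d (W 18)<|d (Q 189)<|h);
 (d (Q 1)<|d (W 2)<|d (Q 0)<|d (Q 1)<|d (Q 21)<|e));
 (let e:=(d (Q 6)<|d (Q 1)<|d (Q 1)<|d (W 0)<|d (Q 2)<|e);
 (d (Q 0)<|d (Q 0)<|d (Q 0)<|
 d (Q 0)<|e)));
 (let e:=(let e:=(d (W 0)<|d (W 6)<|d (Q 0)<|d (Q 0)<|d (Q 0)<|e);
 (d (Q 0)<|d (Q 0)<|d (Q 1)<|d (Q 1)<|e));
 (let e:=(d (W 53)<|d (Q 1)<|d (Q 0)<|d (Q 5)<|d (Q 0)<|e);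
 (f (W 27026)<|f (W 530)<|f (W 2)<|f (W 5)<|e))))<|
 l (let e:=(let e:=(let e:=(d (Q 9)<|d (Q 0)<|d (W 2)<|d (W 55)<|d (W 755)<|h);
 (d (Q 0)<|d (Q 12)<|d (Q 3)<|d (Q 0)<|d (Q 48)<|e));
 (let e:=(d (Q 0)<|d (Q 0)<|d (Q 0)<|d (Q 1)<|d (Q 1)<|e);
 (d (Q 0)<|d (Q 0)<|d (Q 0)<|
 d (Q 0)<|e)));
 (let e:=(let e:=(d (W 0)<|d (Q 2)<|d (Q 0)<|d (Q 0)<|d (Q 0)<|e);
 (d (Q 0)<|d (W 0)<|d (Q 0)<|d (W 1)<|e));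
 (let e:=(d (W 26)<|d (W 0)<|d (Q 0)<|d (Q 4)<|d (Q 1)<|e);
 (f (W 30887)<|f (Q 216)<|f (W 7)<|f (W 2)<|e))))<|
 l (let e:=(let e:=(let e:=(d (W 12)<|d (Q 0)<|d (Q 0)<|d (Q 20)<|d (W 419)<|h);
 (d (Q 0)<|d (W 3)<|d (Q 3)<|d (Q 0)<|d (W 119)<|e));
 (let e:=(d (Q 12)<|d (W 1)<|d (Q 0)<|d (Q 0)<|d (W 0)<|e);
 (d (Q 0)<|d (Q 0)<|d (Q 3)<|
 d (Q 2)<|e)));
 (let e:=(let e:=(d (Q 0)<|d (Q 0)<|d (Q 0)<|d (Q 0)<|d (Q 0)<|e);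
 (d (Q 0)<|d (W 0)<|d (Q 0)<|d (Q 0)<|e));
 (let e:=(d (W 32)<|d (Q 0)<|d (Q 0)<|d (W 3)<|d (W 0)<|e);
 (f (W 42899)<|f (W 339)<|f (W 3)<|f (W 0)<|e))))<|
 l (let e:=(let e:=(let e:=(d (W 8)<|d (W 6)<|d (Q 0)<|d (W 54)<|d (W 944)<|h);
 (d (W 0)<|d (Q 15)<|d (Q 0)<|d (Q 5)<|d (Q 105)<|e));
 (let e:=(d (Q 6)<|d (Q 1)<|d (W 0)<|d (Q 0)<|d (W 0)<|e);
 (d (Q 0)<|d (Q 0)<|d (Q 0)<|
 d (Q 0)<|e)));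
 (let e:=(let e:=(d (Q 0)<|d (Q 0)<|d (Q 0)<|d (W 0)<|d (Q 0)<|e);
 (d (Q 0)<|d (Q 0)<|d (Q 1)<|d (Q 0)<|e));
 (let e:=(d (Q 27)<|d (Q 0)<|d (Q 0)<|d (W 0)<|d (W 0)<|e);
 (f (W 51974)<|f (W 134)<|f (W 6)<|f (Q 3)<|e))))<|
 l (let e:=(let e:=(let e:=(d (W 1)<|d (W 3)<|d (Q 0)<|d (Q 20)<|d (W 20)<|h);
 (d (Q 1)<|d (W 4)<|d (Q 0)<|d (Q 4)<|d (W 83)<|e));
 (let e:=(d (Q 0)<|d (Q 0)<|d (W 0)<|d (Q 0)<|d (W 3)<|e);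
 (d (Q 0)<|d (Q 0)<|d (W 2)<|
 d (W 1)<|e)));
 (let e:=(let e:=(d (W 0)<|d (Q 5)<|d (Q 0)<|d (Q 0)<|d (Q 0)<|e);
 (d (Q 0)<|d (Q 0)<|d (Q 0)<|d (Q 1)<|e));
 (let e:=(d (W 29)<|d (Q 0)<|d (Q 0)<|d (W 0)<|d (Q 0)<|e);
 (f (W 60059)<|f (Q 100)<|f (W 11)<|f (W 1)<|e))))<|
 e);
 (l (let e:=(let e:=(let e:=(d (Q 0)<|d (Q 2)<|d (W 8)<|d (W 65)<|d (W 728)<|h);
 (d (Q 1)<|d (W 8)<|d (Q 2)<|d (W 1)<|d (W 53)<|e));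
 (let e:=(d (Q 0)<|d (Q 0)<|d (W 0)<|d (W 0)<|d (Q 0)<|e);
 (d (Q 0)<|d (Q 0)<|d (Q 0)<|d (Q 0)<|
 e)));
 (let e:=(let e:=(d (Q 1)<|d (Q 1)<|d (Q 0)<|d (Q 0)<|d (W 0)<|e);
 (d (Q 2)<|d (Q 2)<|d (Q 2)<|d (Q 1)<|e));
 (let e:=(d (Q 0)<|d (W 0)<|d (Q 0)<|d (Q 3)<|d (Q 0)<|e);
 (f (W 18953)<|f (Q 54)<|f (Q 6)<|f (Q 0)<|e))))<|
 l (let e:=(let e:=(let e:=(d (Q 2)<|d (Q 10)<|d (Q 0)<|d (W 49)<|d (W 614)<|h);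
 (d (Q 1)<|d (W 6)<|d (W 1)<|d (W 1)<|d (W 29)<|e));
 (let e:=(d (Q 0)<|d (Q 0)<|d (Q 1)<|d (Q 0)<|d (W 1)<|e);
 (d (Q 0)<|d (Q 0)<|d (W 2)<|d (Q 2)<|
 e)));
 (let e:=(let e:=(d (Q 0)<|d (Q 0)<|d (Q 0)<|d (Q 0)<|d (Q 1)<|e);
 (d (Q 0)<|d (W 1)<|d (Q 2)<|d (Q 0)<|e));
 (let e:=(d (Q 24)<|d (Q 0)<|d (Q 0)<|d (Q 1)<|d (Q 0)<|e);
 (f (W 21449)<|f (W 9)<|f (Q 6)<|f (W 3)<|e))))<|
 l (let e:=(let e:=(let e:=(d (Q 2)<|d (W 7)<|d (Q 0)<|d (W 19)<|d (Q 210)<|h);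
 (d (Q 0)<|d (Q 2)<|d (Q 0)<|d (Q 0)<|d (Q 0)<|e));
 (let e:=(d (W 11)<|d (Q 2)<|d (W 1)<|d (Q 0)<|d (W 1)<|e);
 (d (Q 0)<|d (Q 0)<|d (Q 3)<|
 d (Q 2)<|e)));
 (let e:=(let e:=(d (Q 0)<|d (Q 0)<|d (Q 0)<|d (Q 1)<|d (Q 0)<|e);
 (d (Q 0)<|d (Q 0)<|d (Q 0)<|d (Q 0)<|e));
 (let e:=(d (W 23)<|d (Q 0)<|d (Q 0)<|d (W 1)<|d (Q 0)<|e);
 (f (W 23099)<|f (Q 260)<|f (W 11)<|f (W 3)<|e))))<|
 l (let e:=(let e:=(let e:=(d (Q 5)<|d (Q 16)<|d (Q 6)<|d (W 39)<|d (Q 294)<|h);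
 (d (Q 0)<|d (W 9)<|d (Q 0)<|d (Q 0)<|d (Q 0)<|e));
 (let e:=(d (Q 0)<|d (Q 0)<|d (W 1)<|d (Q 2)<|d (W 0)<|e);
 (d (Q 0)<|d (Q 0)<|d (Q 3)<|d (W 0)<|
 e)));
 (let e:=(let e:=(d (W 0)<|d (W 3)<|d (Q 0)<|d (Q 0)<|d (Q 0)<|e);
 (d (Q 0)<|d (Q 0)<|d (Q 0)<|d (Q 0)<|e));
 (let e:=(d (W 38)<|d (Q 0)<|d (Q 0)<|d (Q 2)<|d (W 0)<|e);
 (f (W 24023)<|f (W 87)<|f (Q 8)<|f (Q 5)<|e))))<|
 e));
 (let e:=(l (let e:=(let e:=(let e:=(d (Q 5)<|d (W 3)<|d (W 5)<|d (W 19)<|d (W 140)<|h);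
 (d (W 0)<|d (W 12)<|d (W 0)<|d (W 3)<|d (W 35)<|e));
 (let e:=(d (Q 0)<|d (Q 0)<|d (W 0)<|d (W 1)<|d (Q 1)<|e);
 (d (Q 0)<|d (Q 0)<|d (W 2)<|d (W 0)<|
 e)));
 (let e:=(let e:=(d (W 0)<|d (W 0)<|d (Q 0)<|d (Q 0)<|d (W 0)<|e);
 (d (Q 0)<|d (W 0)<|d (Q 0)<|d (W 0)<|e));
 (let e:=(d (Q 3)<|d (Q 0)<|d (Q 0)<|d (W 4)<|d (W 0)<|e);
 (f (W 1715)<|f (W 51)<|f (W 3)<|f (W 0)<|e))))<|
 l (let e:=(let e:=(let e:=(d (Q 1)<|d (W 0)<|d (W 14)<|d (W 48)<|d (W 209)<|h);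
 (d (Q 0)<|d (W 1)<|d (W 2)<|d (Q 3)<|d (Q 15)<|e));
 (let e:=(d (W 5)<|d (W 0)<|d (Q 2)<|d (Q 1)<|d (W 0)<|e);
 (d (Q 0)<|d (Q 0)<|d (Q 0)<|d (Q 1)<|
 e)));
 (let e:=(let e:=(d (Q 0)<|d (Q 0)<|d (Q 0)<|d (Q 0)<|d (Q 0)<|e);
 (d (Q 0)<|d (Q 1)<|d (W 0)<|d (Q 0)<|e));
 (let e:=(d (W 2)<|d (Q 1)<|d (Q 0)<|d (Q 2)<|d (W 0)<|e);
 (f (W 2144)<|f (Q 31)<|f (W 0)<|f (Q 1)<|e))))<|
 l (let e:=(let e:=(let e:=(d (Q 19)<|d (Q 5)<|d (W 2)<|d (W 10)<|d (W 104)<|h);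
 (d (Q 1)<|d (Q 7)<|d (Q 0)<|d (Q 1)<|d (Q 21)<|e));
 (let e:=(d (Q 6)<|d (Q 1)<|d (W 0)<|d (Q 1)<|d (Q 1)<|e);
 (d (Q 0)<|d (Q 0)<|d (W 2)<|d (Q 1)<|
 e)));
 (let e:=(let e:=(d (Q 0)<|d (W 2)<|d (Q 0)<|d (Q 0)<|d (Q 0)<|e);
 (d (Q 0)<|d (Q 0)<|d (W 2)<|d (Q 1)<|e));
 (let e:=(d (W 14)<|d (W 0)<|d (Q 0)<|d (W 4)<|d (W 0)<|e);
 (f (W 3002)<|f (W 58)<|f (Q 5)<|f (Q 1)<|e))))<|
 l (let e:=(let e:=(let e:=(d (W 18)<|d (Q 2)<|d (Q 0)<|d (W 9)<|d (W 68)<|h);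
 (d (Q 1)<|d (Q 11)<|d (Q 1)<|d (W 1)<|d (W 5)<|e));
 (let e:=(d (Q 0)<|d (Q 0)<|d (W 0)<|d (Q 0)<|d (W 0)<|e);
 (d (Q 0)<|d (Q 0)<|d (W 2)<|d (W 0)<|
 e)));
 (let e:=(let e:=(d (Q 1)<|d (W 4)<|d (Q 0)<|d (Q 0)<|d (Q 1)<|e);
 (d (Q 0)<|d (Q 1)<|d (W 1)<|d (W 0)<|e));
 (let e:=(d (W 32)<|d (Q 0)<|d (Q 0)<|d (W 0)<|d (Q 1)<|e);
 (f (W 4289)<|f (W 129)<|f (W 1)<|f (W 0)<|e))))<|
 l (let e:=(let e:=(let e:=(d (W 15)<|d (Q 0)<|d (W 14)<|d (W 63)<|d (W 419)<|h);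
 (d (Q 0)<|d (W 3)<|d (Q 0)<|d (Q 0)<|d (Q 0)<|e));
 (let e:=(d (Q 0)<|d (Q 0)<|d (Q 0)<|d (Q 1)<|d (Q 2)<|e);
 (d (Q 0)<|d (Q 0)<|d (Q 0)<|d (W 0)<|
 e)));
 (let e:=(let e:=(d (Q 0)<|d (Q 0)<|d (Q 0)<|d (Q 1)<|d (Q 0)<|e);
 (d (W 1)<|d (Q 0)<|d (Q 0)<|d (Q 0)<|e));
 (let e:=(d (W 5)<|d (Q 1)<|d (Q 0)<|d (W 3)<|d (Q 0)<|e);
 (f (W 6719)<|f (W 63)<|f (Q 0)<|f (Q 2)<|e))))<|
 e);
 (f (let e:=(let e:=(let e:=(d (W 4)<|d (Q 2)<|d (W 5)<|d (W 9)<|d (W 20)<|h);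
 (d (Q 1)<|d (W 4)<|d (W 2)<|d (W 1)<|d (W 5)<|e));
 (let e:=(d (Q 0)<|
 d (Q 0)<|d (W 0)<|d (W 1)<|d (W 0)<|e);
 (d (Q 0)<|d (Q 0)<|d (Q 3)<|d (Q 1)<|e)));
 (let e:=(let e:=(d (W 0)<|d (W 0)<|d (Q 0)<|d (W 0)<|d (Q 0)<|e);
 (d (Q 0)<|d (Q 1)<|d (W 1)<|d (W 0)<|e));
 (let e:=(d (W 2)<|d (Q 0)<|d (Q 0)<|d (W 0)<|d (Q 1)<|e);
 (f (W 65)<|f (W 1)<|f (W 1)<|f (Q 1)<|e))))<|
 f (let e:=(let e:=(let e:=(d (W 7)<|d (W 1)<|d (W 2)<|d (W 5)<|d (W 14)<|h);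
 (d (W 0)<|d (Q 1)<|d (W 0)<|d (Q 2)<|d (Q 6)<|e));
 (let e:=(d (Q 0)<|d (Q 0)<|d (Q 1)<|d (Q 1)<|d (Q 0)<|e);
 (d (Q 0)<|d (Q 0)<|d (Q 0)<|d (Q 1)<|
 e)));
 (let e:=(let e:=(d (Q 0)<|d (W 2)<|d (Q 0)<|d (Q 0)<|d (W 0)<|e);
 (d (Q 2)<|d (W 0)<|d (W 1)<|d (Q 1)<|e));
 (let e:=(d (W 5)<|d (W 0)<|d (Q 0)<|d (W 2)<|d (Q 2)<|e);
 (f (W 77)<|f (W 13)<|f (Q 2)<|f (W 1)<|e))))<|
 f (let e:=(let e:=(let e:=(d (W 1)<|d (W 0)<|d (W 8)<|d (W 20)<|d (W 68)<|h);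
 (d (W 0)<|d (W 4)<|d (W 1)<|d (W 0)<|d (W 8)<|e));
 (let e:=(d (Q 6)<|d (Q 1)<|d (W 0)<|d (W 0)<|d (Q 0)<|e);
 (d (Q 0)<|d (Q 0)<|d (Q 3)<|d (W 1)<|
 e)));
 (let e:=(let e:=(d (Q 1)<|d (Q 1)<|d (Q 0)<|d (Q 0)<|d (Q 1)<|e);
 (d (Q 0)<|d (W 1)<|d (W 0)<|d (Q 1)<|e));
 (let e:=(d (W 5)<|d (W 0)<|d (Q 0)<|d (Q 3)<|d (Q 0)<|e);
 (f (W 428)<|f (Q 19)<|f (Q 3)<|f (W 1)<|e))))<|
 f (let e:=(let e:=(let e:=(d (Q 8)<|d (W 4)<|d (Q 0)<|d (W 4)<|d (Q 21)<|h);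
 (d (W 0)<|d (Q 5)<|d (Q 0)<|d (W 0)<|d (W 20)<|e));
 (let e:=(d (W 5)<|d (W 0)<|d (Q 1)<|d (Q 0)<|d (W 1)<|e);
 (d (Q 0)<|d (Q 0)<|d (Q 0)<|d (W 0)<|
 e)));
 (let e:=(let e:=(d (Q 1)<|d (W 4)<|d (Q 0)<|d (Q 0)<|d (Q 0)<|e);
 (d (Q 2)<|d (Q 0)<|d (W 0)<|d (W 0)<|e));
 (let e:=(d (W 23)<|d (Q 0)<|d (Q 0)<|d (Q 1)<|d (W 1)<|e);
 (f (W 1364)<|f (W 84)<|f (W 4)<|f (W 3)<|e))))<|
 e)))))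

/-- the degrees -/
def bs : List ℤ := (beta% delta% lq26d4b3e7c8 fun d f _ h _ _ _ _ _ _ _ =>
 (let e:=(let e:=(let e:=(d (Q 208494)<|d (Q 225225)<|d (Q 331695)<|d (Q 2925)<|d (Q 5103)<|h);
 (d (Q 160380)<|d (Q 180180)<|d (Q 189540)<|d (Q 193050)<|e));
 (let e:=(d (Q 104247)<|d (Q 108108)<|d (Q 133056)<|d (Q 135135)<|
 d (Q 139776)<|e);
 (d (Q 64350)<|d (Q 75075)<|d (Q 75075)<|d (Q 85800)<|e)));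
 (let e:=(let e:=(d (Q 27027)<|
 d (Q 30888)<|d (Q 42900)<|d (Q 51975)<|d (Q 60060)<|e);
 (d (Q 18954)<|d (Q 21450)<|d (Q 23100)<|d (Q 24024)<|e));
 (let e:=(d (Q 1716)<|d (Q 2145)<|d (Q 3003)<|d (Q 4290)<|d (Q 6720)<|e);
 (f (Q 66)<|f (Q 78)<|f (Q 429)<|f (Q 1365)<|e)))))

end data

/-- the sum of a triple -/
def sm (v : ℤ × ℤ × ℤ) : ℤ := v.1 + v.2.1 + v.2.2

/-- the exterior square of a triple -/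
def lamV (v u : ℤ × ℤ × ℤ) : ℤ × ℤ × ℤ :=
  ((v.1 * v.1 - u.1) / 2, (v.2.1 * v.2.1 - u.2.2) / 2, (v.2.2 * v.2.2 - u.2.1) / 2)

/-- the parities -/
def okL (v u : ℤ × ℤ × ℤ) : Prop := 2 ∣ v.1 * v.1 - u.1 ∧ 2 ∣ v.2.1 * v.2.1 - u.2.2 ∧ 2 ∣ v.2.2 * v.2.2 - u.2.1

/-- the faithful part of a triple -/
def prjV (v : ℤ × ℤ × ℤ) : ℤ × ℤ × ℤ := (v.1 - sm v / 3, v.2.1 - sm v / 3, v.2.2 - sm v / 3)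

/-- the product of triples -/
def mulV (v u : ℤ × ℤ × ℤ) : ℤ × ℤ × ℤ := (v.1 * u.1, v.2.1 * u.2.1, v.2.2 * u.2.2)

/-- a member of a triple -/
def g3 (v : ℤ × ℤ × ℤ) (k : ℕ) : ℤ := if k = 0 then v.1 else if k = 1 then v.2.1 else v.2.2

/-- the first seed -/
noncomputable def va (t : ℕ) : ℤ × ℤ × ℤ := prjV (lamV (tv t 0) (tv t 1))

/-- the first seed at the squares -/
noncomputable def va2 (t : ℕ) : ℤ × ℤ × ℤ := prjV (lamV (tv t 1) (tv t 2))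

/-- the second seed -/
noncomputable def vb (t : ℕ) : ℤ × ℤ × ℤ := prjV (mulV (tv t 0) (tv t 0))

/-- the third seed -/
noncomputable def vc (t : ℕ) : ℤ × ℤ × ℤ := prjV (lamV (va t) (va2 t))

/-- the rows -/
noncomputable def vF (j t : ℕ) : ℤ × ℤ × ℤ := (nth (ntd fr0 [] j) t, nth (ntd fr1 [] j) t, nth (ntd fr2 [] j) t)

/-- the cofactors -/
noncomputable def cU (c : List (List (ℤ × ℕ))) (j : ℕ) : List ℤ := comb (rowA ++ rowB) (ntd c [] j)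

theorem div_ok : ∀ t < 37, (okL (tv t 0) (tv t 1) ∧ okL (tv t 1) (tv t 2) ∧ okL (va t) (va2 t)) ∧
    3 ∣ sm (lamV (tv t 0) (tv t 1)) ∧ 3 ∣ sm (lamV (tv t 1) (tv t 2)) ∧ 3 ∣ sm (mulV (tv t 0) (tv t 0)) ∧
      3 ∣ sm (lamV (va t) (va2 t)) := by
  unfold okL
  decide +kernel

/-- the check of a row -/
noncomputable def rowB' (j : ℕ) : Bool :=
  (beta% delta% lq26d4b3e7c8 fun _ f _ h _ _ m n o p q =>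
 m (cU cfa j) fun a => m (cU cfb j) fun b => m (cU cfc j) fun c => o (fun t => o (fun k =>
 p (g3 (vF j t) k = g3 (va t) k * n a t + g3 (vb t) k * n b t + g3 (vc t) k * n c t)) (f 0<|f 1<|f 2<|h))
 (q 37))

theorem row_ok : ∀ j < 36, rowB' j = true := by decide +kernel

/-- half the norms -/
def mW (j : ℕ) : ℕ := if j < 34 then 1 else 2

private noncomputable def _root_.Cfsg.Agent.KOdcb1b60.k0 : ((x0 : Prop) → ((@Decidable @x0) → @Bool)) := @(fun (x0 : Prop) (x1 : @Decidable @x0) => @Decidable.rec.{1} @x0 @(fun (x2 : @Decidable @x0) => @Bool) @(fun (x2 : @Not @x0) => @Bool.false) @(fun (x2 : x0) => @Bool.true) @x1)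
private theorem _root_.Cfsg.Agent.KOdcb1b60.e0 : @Decidable.decide = @_root_.Cfsg.Agent.KOdcb1b60.k0 := by delta _root_.Cfsg.Agent.KOdcb1b60.k0; rfl'
private noncomputable def _root_.Cfsg.Agent.KOdcb1b60.k4 : ((@Int) → ((@Int) → @Int)) := @(fun (x0 : @Int) (x1 : @Int) => @Int.rec.{1} @(fun (x2 : @Int) => @Int) @(fun (x2 : @Nat) => @Int.rec.{1} @(fun (x3 : @Int) => @Int) @(fun (x3 : @Nat) => @Int.ofNat (@Nat.add @x2 @x3)) @(fun (x3 : @Nat) => @Nat.rec.{1} @(fun (x4 : @Nat) => @Int) (@Int.ofNat (@Nat.sub @x2 (@Nat.succ @x3))) @(fun (x4 : @Nat) (x5 : @Int) => @Int.negSucc @x4) (@Nat.sub (@Nat.succ @x3) @x2)) @x1) @(fun (x2 : @Nat) => @Int.rec.{1} @(fun (x3 : @Int) => @Int) @(fun (x3 : @Nat) => @Nat.rec.{1} @(fun (x4 : @Nat) => @Int) (@Int.ofNat (@Nat.sub @x3 (@Nat.succ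 @x2))) @(fun (x4 : @Nat) (x5 : @Int) => @Int.negSucc @x4) (@Nat.sub (@Nat.succ @x2) @x3)) @(fun (x3 : @Nat) => @Int.negSucc (@Nat.succ (@Nat.add @x2 @x3))) @x1) @x0)
private theorem _root_.Cfsg.Agent.KOdcb1b60.e4 : @Int.add = @_root_.Cfsg.Agent.KOdcb1b60.k4 := by delta _root_.Cfsg.Agent.KOdcb1b60.k4; rfl'
private noncomputable def _root_.Cfsg.Agent.KOdcb1b60.k8 : ((@Int) → ((@Int) → @Int)) := @(fun (x0 : @Int) (x1 : @Int) => @Int.rec.{1} @(fun (x2 : @Int) => @Int) @(fun (x2 : @Nat) => @Int.rec.{1} @(fun (x3 : @Int) => @Int) @(fun (x3 : @Nat) => @Int.ofNat (@Nat.mul @x2 @x3)) @(fun (x3 : @Nat) => @Nat.rec.{1} @(fun (x4 : @Nat) => @Int) (@Int.ofNat (nat_lit 0)) @(fun (x4 : @Nat) (x5 : @Int) => @Int.negSucc @x4) (@Nat.mul @x2 (@Nat.succ @x3))) @x1) @(fun (x2 : @Nat)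 => @Int.rec.{1} @(fun (x3 : @Int) => @Int) @(fun (x3 : @Nat) => @Nat.rec.{1} @(fun (x4 : @Nat) => @Int) (@Int.ofNat (nat_lit 0)) @(fun (x4 : @Nat) (x5 : @Int) => @Int.negSucc @x4) (@Nat.mul (@Nat.succ @x2) @x3)) @(fun (x3 : @Nat) => @Int.ofNat (@Nat.mul (@Nat.succ @x2) (@Nat.succ @x3))) @x1) @x0)
private theorem _root_.Cfsg.Agent.KOdcb1b60.e8 : @Int.mul = @_root_.Cfsg.Agent.KOdcb1b60.k8 := by delta _root_.Cfsg.Agent.KOdcb1b60.k8; rfl'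
private noncomputable def _root_.Cfsg.Agent.KOdcb1b60.oEq.{ku} (α : Sort ku) (a b : Nat) (f t : α) : α := @Decidable.rec (a = b) (fun _ => α) (fun _ => f) (fun _ => t) (Nat.decEq a b)
private noncomputable def _root_.Cfsg.Agent.KOdcb1b60.k13.{ku} (α : Sort ku) (a b : Nat) (f t : α) : α := @Bool.rec (fun _ => α) f t (Nat.beq a b)
private theorem _root_.Cfsg.Agent.KOdcb1b60.e13.{ku} : @_root_.Cfsg.Agent.KOdcb1b60.oEq.{ku} = @_root_.Cfsg.Agent.KOdcb1b60.k13.{ku} := funext fun α => funext fun a => funext fun b => funext fun f => funext fun t => by delta _root_.Cfsg.Agent.KOdcb1b60.oEq _root_.Cfsg.Agent.KOdcb1b60.k13; cases h : Nat.beq a b <;> cases Nat.decEq a b <;> rename_i g <;> first | rfl | exact absurd g (Nat.ne_of_beq_eq_false h) | exact absurd (Nat.eq_of_beq_eq_true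 h) g
private noncomputable def _root_.Cfsg.Agent.KOdcb1b60.k27 : ((x0 : @Nat) → ((x1 : @Nat) → @Decidable (@Eq.{1} @Nat @x0 @x1))) := @(fun (x0 : @Nat) (x1 : @Nat) => @Bool.rec.{1} @(fun (x2 : @Bool) => ((@Eq.{1} @Bool (@Nat.beq @x0 @x1) @x2) → @Decidable (@Eq.{1} @Nat @x0 @x1))) @(fun (x2 : @Eq.{1} @Bool (@Nat.beq @x0 @x1) @Bool.false) => @Decidable.isFalse (@Eq.{1} @Nat @x0 @x1) (@Nat.ne_of_beq_eq_false @x0 @x1 @x2)) @(fun (x2 : @Eq.{1} @Bool (@Nat.beq @x0 @x1) @Bool.true) => @Decidable.isTrue (@Eq.{1} @Nat @x0 @x1) (@Nat.eq_of_beq_eq_true @x0 @x1 @x2)) (@Nat.beq @x0 @x1) (@Eq.refl.{1} @Bool (@Nat.beq @x0 @x1)))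
private theorem _root_.Cfsg.Agent.KOdcb1b60.e27 : @Nat.decEq = @_root_.Cfsg.Agent.KOdcb1b60.k27 := by delta _root_.Cfsg.Agent.KOdcb1b60.k27; rfl'
private noncomputable def _root_.Cfsg.Agent.KOdcb1b60.k28 : ((x0 : @Int) → ((x1 : @Int) → @Decidable (@Eq.{1} @Int @x0 @x1))) := @(fun (x0 : @Int) (x1 : @Int) => @Int.rec.{1} @(fun (x2 : @Int) => @Decidable (@Eq.{1} @Int @x2 @x1)) @(fun (x2 : @Nat) => @Int.rec.{1} @(fun (x3 : @Int) => @Decidable (@Eq.{1} @Int (@Int.ofNat @x2) @x3)) @(fun (x3 : @Nat) => @Decidable.rec.{1} (@Eq.{1} @Nat @x2 @x3) @(fun (x4 : @Decidable (@Eq.{1} @Nat @x2 @x3)) => @Decidable (@Eq.{1} @Int (@Int.ofNat @x2) (@Int.ofNat @x3))) @(fun (x4 : @Not (@Eq.{1} @Nat @x2 @x3)) => @Decidable.isFalse (@Eq.{1} @Int (@Int.ofNat @x2) (@Int.ofNat @x3)) (@Int.decEq._proof_2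 @x2 @x3 @x4)) @(fun (x4 : @Eq.{1} @Nat @x2 @x3) => @Decidable.isTrue (@Eq.{1} @Int (@Int.ofNat @x2) (@Int.ofNat @x3)) (@Int.decEq._proof_1 @x2 @x3 @x4)) (@Cfsg.Agent.KOdcb1b60.k27 @x2 @x3)) @(fun (x3 : @Nat) => @Decidable.isFalse (@Eq.{1} @Int (@Int.ofNat @x2) (@Int.negSucc @x3)) (@Int.decEq._proof_3 @x2 @x3)) @x1) @(fun (x2 : @Nat) => @Int.rec.{1} @(fun (x3 : @Int) => @Decidable (@Eq.{1} @Int (@Int.negSucc @x2) @x3)) @(fun (x3 : @Nat) => @Decidable.isFalse (@Eq.{1} @Int (@Int.negSucc @x2) (@Int.ofNat @x3)) (@Int.decEq._proof_4 @x2 @x3)) @(fun (x3 : @Nat) => @Decidable.rec.{1} (@Eq.{1} @Nat @x2 @x3) @(fun (x4 : @Decidable (@Eq.{1} @Nat @x2 @x3)) => @Decidable (@Eq.{1} @Int (@Int.negSucc @x2) (@Int.negSucc @x3))) @(fun (x4 : @Not (@Eq.{1} @Nat @x2 @x3)) => @Decidable.isFalse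 (@Eq.{1} @Int (@Int.negSucc @x2) (@Int.negSucc @x3)) (@Int.decEq._proof_6 @x2 @x3 @x4)) @(fun (x4 : @Eq.{1} @Nat @x2 @x3) => @Decidable.isTrue (@Eq.{1} @Int (@Int.negSucc @x2) (@Int.negSucc @x3)) (@Int.decEq._proof_5 @x2 @x3 @x4)) (@Cfsg.Agent.KOdcb1b60.k27 @x2 @x3)) @x1) @x0)
private theorem _root_.Cfsg.Agent.KOdcb1b60.e28 : @Int.decEq = @_root_.Cfsg.Agent.KOdcb1b60.k28 := by delta _root_.Cfsg.Agent.KOdcb1b60.k28; rewrite [← Cfsg.Agent.KOdcb1b60.e27]; rfl'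
private noncomputable def _root_.Cfsg.Agent.KOdcb1b60.k33l (n : Nat) (P : ∀ k, k < n → Prop) (H : ∀ k h, Decidable (P k h)) (m : Nat) : m ≤ n → Bool := @Nat.rec (fun m => m ≤ n → Bool) (fun _ => true) (fun k ih h => @Decidable.rec (P k h) (fun _ => Bool) (fun _ => false) (fun _ => ih (Nat.le_of_succ_le h)) (H k h)) m
private theorem _root_.Cfsg.Agent.KOdcb1b60.k33ls (n : Nat) (P : ∀ k, k < n → Prop) (H : ∀ k h, Decidable (P k h)) (m : Nat) : ∀ h : m ≤ n, _root_.Cfsg.Agent.KOdcb1b60.k33l n P H m h = true ↔ ∀ k (g : k < m), P k (Nat.lt_of_lt_of_le g h) := by induction m with | zero => exact fun _ => ⟨fun _ _ g => absurd g (Nat.not_lt_zero _), fun _ => rfl⟩ | succ m ih => intro h; show @Decidable.rec (P m h) (fun _ => Bool) (fun _ => false) (fun _ => _root_.Cfsg.Agent.KOdcb1b60.k33l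 n P H m (Nat.le_of_succ_le h)) (H m h) = true ↔ _; cases H m h with | isFalse q => exact ⟨fun g => absurd g Bool.false_ne_true, fun g => absurd (g m (Nat.lt_succ_self m)) q⟩ | isTrue q => exact ⟨fun g k hk => (Nat.lt_succ_iff_lt_or_eq.1 hk).elim ((ih _).1 g k) fun e => by subst e; exact q, fun g => (ih _).2 fun k hk => g k (Nat.lt_succ_of_lt hk)⟩
private noncomputable def _root_.Cfsg.Agent.KOdcb1b60.k33 (n : Nat) (P : ∀ k, k < n → Prop) (H : ∀ k h, Decidable (P k h)) : Decidable (∀ k h, P k h) := @Bool.rec (fun b => _root_.Cfsg.Agent.KOdcb1b60.k33l n P H n (Nat.le_refl n) = b → Decidable (∀ k h, P k h)) (fun g => isFalse fun q => Bool.false_ne_true (g.symm.trans ((_root_.Cfsg.Agent.KOdcb1b60.k33ls n P H n _).2 fun k h => q k h))) (fun g => isTrue fun k h => (_root_.Cfsg.Agent.KOdcb1b60.k33ls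 n P H n _).1 g k h) (_root_.Cfsg.Agent.KOdcb1b60.k33l n P H n (Nat.le_refl n)) rfl
private theorem _root_.Cfsg.Agent.KOdcb1b60.e33 : @Nat.decidableBallLT = @_root_.Cfsg.Agent.KOdcb1b60.k33 := funext fun _ => funext fun _ => funext fun _ => Subsingleton.elim _ _
private noncomputable def _root_.Cfsg.Agent.KOdcb1b60.k37 : (by first | exact type_of% @Cfsg.Agent.TAB.Eng.ipL | exact Unit : Sort _) := by first | (refine @Subtype.val _ (fun g => @Cfsg.Agent.TAB.Eng.ipL = @g) (@Subtype.mk _ _ (@(fun (x0 : @List.{0} @Nat) => @List.rec.{1, 0} @Nat @(fun (x1 : @List.{0} @Nat) => ((@List.{0} @Int) → ((@List.{0} @Int) → @Int))) @(fun (x1 : @List.{0} @Int) (x2 : @List.{0} @Int) => @Int.ofNat (nat_lit 0)) @(fun (x1 : @Nat) (x2 : @List.{0} @Nat) (x3 : ((@List.{0} @Int) → ((@List.{0}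 @Int) → @Int))) (x4 : @List.{0} @Int) (x5 : @List.{0} @Int) => @List.rec.{1, 0} @Int @(fun (x6 : @List.{0} @Int) => @Int) (@Int.ofNat (nat_lit 0)) @(fun (x6 : @Int) (x7 : @List.{0} @Int) (x8 : @Int) => @List.rec.{1, 0} @Int @(fun (x9 : @List.{0} @Int) => @Int) (@Int.ofNat (nat_lit 0)) @(fun (x9 : @Int) (x10 : @List.{0} @Int) (x11 : @Int) => @Cfsg.Agent.KOdcb1b60.k4 (@Cfsg.Agent.KOdcb1b60.k8 (@Int.ofNat @x1) (@Cfsg.Agent.KOdcb1b60.k8 @x6 @x9)) (@x3 @x7 @x10)) @x5) @x4) @x0)) ?_); rewrite [← Cfsg.Agent.KOdcb1b60.e4, ← Cfsg.Agent.KOdcb1b60.e8]; rfl') | exact @Cfsg.Agent.TAB.Eng.ipL | exact ()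
private theorem _root_.Cfsg.Agent.KOdcb1b60.e37 : (by first | exact @Cfsg.Agent.TAB.Eng.ipL = @_root_.Cfsg.Agent.KOdcb1b60.k37 | exact True : Prop) := by first | (delta _root_.Cfsg.Agent.KOdcb1b60.k37; exact @Subtype.property _ (fun g => @Cfsg.Agent.TAB.Eng.ipL = @g) _) | rfl | trivial
private noncomputable def _root_.Cfsg.Agent.KOdcb1b60.k38 : (by first | exact type_of% @Cfsg.Agent.TAB.Eng.ip | exact Unit : Sort _) := by first | (refine @Subtype.val _ (fun g => @Cfsg.Agent.TAB.Eng.ip = @g) (@Subtype.mk _ _ (@(fun (x0 : @Cfsg.Agent.TAB.Eng.Dat) (x1 : @List.{0} @Int) (x2 : @List.{0} @Int) => @Cfsg.Agent.KOdcb1b60.k37 (@Cfsg.Agent.TAB.Eng.Dat.cntL @x0) @x1 @x2)) ?_); rewrite [← Cfsg.Agent.KOdcb1b60.e37]; (try delta Cfsg.Agent.TAB.Eng.ip); (try generalize @Cfsg.Agent.TAB.Eng.ipL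 = g0); rfl') | exact @Cfsg.Agent.TAB.Eng.ip | exact ()
private theorem _root_.Cfsg.Agent.KOdcb1b60.e38 : (by first | exact @Cfsg.Agent.TAB.Eng.ip = @_root_.Cfsg.Agent.KOdcb1b60.k38 | exact True : Prop) := by first | (delta _root_.Cfsg.Agent.KOdcb1b60.k38; exact @Subtype.property _ (fun g => @Cfsg.Agent.TAB.Eng.ip = @g) _) | rfl | trivial
private noncomputable def _root_.Cfsg.Agent.KOdcb1b60.k39 : ((x0 : Prop) → ((x1 : Prop) → ((@Decidable @x0) → ((@Decidable @x1) → @Decidable (@And @x0 @x1))))) := @(fun (x0 : Prop) (x1 : Prop) (x2 : @Decidable @x0) (x3 : @Decidable @x1) => @Decidable.rec.{1} @x0 @(fun (x4 : @Decidable @x0) => @Decidable (@And @x0 @x1)) @(fun (x4 : @Not @x0) => @Decidable.isFalse (@And @x0 @x1) (@instDecidableAnd._proof_2 @x0 @x1 @x4)) @(fun (x4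 : x0) => @Decidable.rec.{1} @x1 @(fun (x5 : @Decidable @x1) => @Decidable (@And @x0 @x1)) @(fun (x5 : @Not @x1) => @Decidable.isFalse (@And @x0 @x1) (@instDecidableAnd._proof_1 @x0 @x1 @x5)) @(fun (x5 : x1) => @Decidable.isTrue (@And @x0 @x1) (@And.intro @x0 @x1 @x4 @x5)) @x3) @x2)
private theorem _root_.Cfsg.Agent.KOdcb1b60.e39 : @instDecidableAnd = @_root_.Cfsg.Agent.KOdcb1b60.k39 := by delta _root_.Cfsg.Agent.KOdcb1b60.k39; rfl'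
private noncomputable def _root_.Cfsg.Agent.KOdcb1b60.k40 : (by first | exact type_of% @Cfsg.Agent.TAB.Eng.gam | exact Unit : Sort _) := by first | (refine @Subtype.val _ (fun g => @Cfsg.Agent.TAB.Eng.gam = @g) (@Subtype.mk _ _ (@(fun (x0 : (@Nat → @Nat)) (x1 : (@Nat → @Nat)) (x2 : @Nat) (x3 : @Nat) => @Cfsg.Agent.KOdcb1b60.k13.{1} @Int @x2 @x3 (@Decidable.rec.{1} (@And (@Eq.{1} @Nat (@x1 @x2) (@x1 @x3)) (@Ne.{1} @Nat (@x1 @x2) (@OfNat.ofNat.{0} @Nat (nat_lit 0) (@instOfNatNat (nat_lit 0))))) @(fun (x4 : @Decidable (@And (@Eq.{1} @Nat (@x1 @x2) (@x1 @x3)) (@Ne.{1} @Nat (@x1 @x2) (@OfNat.ofNat.{0} @Nat (nat_lit 0) (@instOfNatNat (nat_lit 0)))))) => @Int) @(fun (x4 : @Not (@And (@Eq.{1} @Nat (@x1 @x2) (@x1 @x3)) (@Ne.{1} @Nat (@x1 @x2) (@OfNat.ofNat.{0} @Nat (nat_lit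 0) (@instOfNatNat (nat_lit 0)))))) => @Int.ofNat (nat_lit 0)) @(fun (x4 : @And (@Eq.{1} @Nat (@x1 @x2) (@x1 @x3)) (@Ne.{1} @Nat (@x1 @x2) (@OfNat.ofNat.{0} @Nat (nat_lit 0) (@instOfNatNat (nat_lit 0))))) => @Int.ofNat (nat_lit 1)) (@Cfsg.Agent.KOdcb1b60.k39 (@Eq.{1} @Nat (@x1 @x2) (@x1 @x3)) (@Ne.{1} @Nat (@x1 @x2) (@OfNat.ofNat.{0} @Nat (nat_lit 0) (@instOfNatNat (nat_lit 0)))) (@Cfsg.Agent.KOdcb1b60.k27 (@x1 @x2) (@x1 @x3)) (@Decidable.rec.{1} (@Eq.{1} @Nat (@x1 @x2) (@OfNat.ofNat.{0} @Nat (nat_lit 0) (@instOfNatNat (nat_lit 0)))) @(fun (x4 : @Decidable (@Eq.{1} @Nat (@x1 @x2) (@OfNat.ofNat.{0} @Nat (nat_lit 0) (@instOfNatNat (nat_lit 0))))) => @Decidable (@Not (@Eq.{1} @Nat (@x1 @x2) (@OfNat.ofNat.{0} @Nat (nat_lit 0) (@instOfNatNat (nat_lit 0)))))) @(fun (x4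 : @Not (@Eq.{1} @Nat (@x1 @x2) (@OfNat.ofNat.{0} @Nat (nat_lit 0) (@instOfNatNat (nat_lit 0))))) => @Decidable.isTrue (@Not (@Eq.{1} @Nat (@x1 @x2) (@OfNat.ofNat.{0} @Nat (nat_lit 0) (@instOfNatNat (nat_lit 0))))) @x4) @(fun (x4 : @Eq.{1} @Nat (@x1 @x2) (@OfNat.ofNat.{0} @Nat (nat_lit 0) (@instOfNatNat (nat_lit 0)))) => @Decidable.isFalse (@Not (@Eq.{1} @Nat (@x1 @x2) (@OfNat.ofNat.{0} @Nat (nat_lit 0) (@instOfNatNat (nat_lit 0))))) (@absurd.{0} (@Eq.{1} @Nat (@x1 @x2) (@OfNat.ofNat.{0} @Nat (nat_lit 0) (@instOfNatNat (nat_lit 0)))) @False @x4)) (@Cfsg.Agent.KOdcb1b60.k27 (@x1 @x2) (nat_lit 0))))) (@Int.ofNat (@x0 @x2)))) ?_); rewrite [← Cfsg.Agent.KOdcb1b60.e13.{1}, ← Cfsg.Agent.KOdcb1b60.e39, ← Cfsg.Agent.KOdcb1b60.e27]; rfl') | exact @Cfsg.Agent.TAB.Eng.gam |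 exact ()
private theorem _root_.Cfsg.Agent.KOdcb1b60.e40 : (by first | exact @Cfsg.Agent.TAB.Eng.gam = @_root_.Cfsg.Agent.KOdcb1b60.k40 | exact True : Prop) := by first | (delta _root_.Cfsg.Agent.KOdcb1b60.k40; exact @Subtype.property _ (fun g => @Cfsg.Agent.TAB.Eng.gam = @g) _) | rfl | trivial
private noncomputable def _root_.Cfsg.Agent.KOdcb1b60.oLe.{ku} (α : Sort ku) (a b : Nat) (f t : α) : α := @Decidable.rec (@LE.le Nat instLENat a b) (fun _ => α) (fun _ => f) (fun _ => t) (Nat.decLe a b)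
private noncomputable def _root_.Cfsg.Agent.KOdcb1b60.k41.{ku} (α : Sort ku) (a b : Nat) (f t : α) : α := @Bool.rec (fun _ => α) f t (Nat.ble a b)
private theorem _root_.Cfsg.Agent.KOdcb1b60.e41.{ku} : @_root_.Cfsg.Agent.KOdcb1b60.oLe.{ku} = @_root_.Cfsg.Agent.KOdcb1b60.k41.{ku} := funext fun α => funext fun a => funext fun b => funext fun f => funext fun t => by delta _root_.Cfsg.Agent.KOdcb1b60.oLe _root_.Cfsg.Agent.KOdcb1b60.k41; cases h : Nat.ble a b <;> cases Nat.decLe a b <;> rename_i g <;> first | rfl | exact absurd (h.symm.trans (Nat.ble_eq_true_of_le g)) Bool.false_ne_true | exact absurd (Nat.le_of_ble_eq_true h) g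
private noncomputable def _root_.Cfsg.Agent.KOdcb1b60.k42 : (by first | exact type_of% @Cfsg.Agent.MK.S4.Z.mW | exact Unit : Sort _) := by first | (refine @Subtype.val _ (fun g => @Cfsg.Agent.MK.S4.Z.mW = @g) (@Subtype.mk _ _ (@(fun (x0 : @Nat) => @Cfsg.Agent.KOdcb1b60.k41.{1} @Nat (@Nat.succ @x0) (nat_lit 34) (nat_lit 2) (nat_lit 1))) ?_); rewrite [← Cfsg.Agent.KOdcb1b60.e41.{1}]; rfl') | exact @Cfsg.Agent.MK.S4.Z.mW | exact ()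
private theorem _root_.Cfsg.Agent.KOdcb1b60.e42 : (by first | exact @Cfsg.Agent.MK.S4.Z.mW = @_root_.Cfsg.Agent.KOdcb1b60.k42 | exact True : Prop) := by first | (delta _root_.Cfsg.Agent.KOdcb1b60.k42; exact @Subtype.property _ (fun g => @Cfsg.Agent.MK.S4.Z.mW = @g) _) | rfl | trivial
private noncomputable def _root_.Cfsg.Agent.KOdcb1b60.k43 : @DecidableEq.{1} @Int := @Cfsg.Agent.KOdcb1b60.k28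
private theorem _root_.Cfsg.Agent.KOdcb1b60.e43 : @Int.instDecidableEq = @_root_.Cfsg.Agent.KOdcb1b60.k43 := by delta _root_.Cfsg.Agent.KOdcb1b60.k43; rewrite [← Cfsg.Agent.KOdcb1b60.e28]; rfl'

theorem gram_ok : ∀ i < 36, ∀ j < 36, ip dat (ntd fr0 [] i) (ntd fr0 [] j) + ip dat (ntd fr1 [] i) (ntd fr1 [] j) +
    ip dat (ntd fr2 [] i) (ntd fr2 [] j) = (dat.N : ℤ) * (6 * gam mW (fun _ => 0) i j) := by (first | (refine of_decide_eq_true ?_; rewrite [Cfsg.Agent.KOdcb1b60.e0, Cfsg.Agent.KOdcb1b60.e38, Cfsg.Agent.KOdcb1b60.e40, Cfsg.Agent.KOdcb1b60.e42, Cfsg.Agent.KOdcb1b60.e33, Cfsg.Agent.KOdcb1b60.e43]; decide +kernel) | decide +kernel)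

theorem reg_ok : ∀ t < 37, ∀ k < 3, ∑ j ∈ range 36, nth bs j * g3 (vF j t) k =
    if t = 0 then (if k = 0 then 2 * (dat.N : ℤ) else -(dat.N : ℤ)) else 0 := by decide +kernel

theorem sep_ok : ∀ j < 36, ∀ i < j, mW j = 2 → mW i = 2 → ¬ (vF j 0).1 + 1 * (vF i 0).1 ∣ 4 * ((3 * dat.N : ℕ) : ℤ) ∧
    ¬ (vF j 0).1 + -1 * (vF i 0).1 ∣ 4 * ((3 * dat.N : ℕ) : ℤ) := by decide +kernel

theorem cnt_ok : ∑ y ∈ range (36 + 0), (if sdeg 36 (fun _ => 0) (nth bs) y % 2 = 1 then mlt 36 mW (fun _ => 0) y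
    else 0) = 16 := by decide +kernel

end Cfsg.Agent.MK.S4.Z
end

-- part: MK/S8/Sheet
section
set_option linter.all false

/-!
# MK, small rows: `Au` from a sheet (helper54)
-/

set_option autoImplicit false

namespace Cfsg.Agent.MK.S8

open Cfsg Subgroup

variable {X : Type} [Group X] {E : Subgroup X} {z : X}

open Cfsg.Agent.OddHalf.D8.JTwo.Sheet in
theorem au_of_sheet [Finite X] {P : Subgroup X} (h : SheetX z P E)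
    (hi : (MulAut.conj : X →* MulAut X).range.index = 1 ∨ (MulAut.conj : X →* MulAut X).range.index = 2) :
    Au E z where
  map α hα _ hx := OddHalf.CaseM.X.map_R h α hα hx
  inn α hα ht := GAL.Spor.inner_iff_mem.1 (GAL.Spor.inner_of_triv h hα (k := 1) (GAL.Spor.inner_iff_mem.2 (by
      rcases hi with hi | hi
      · exact index_eq_one.1 hi ▸ mem_top _
      · exact sq_mem_of_index_two hi α))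
    fun x hx => ht x (mem_centralizer_singleton_iff.2 (h.cen x hx)))

end Cfsg.Agent.MK.S8
end

-- part: MK/S2/Loc
section
prune_inst 0x3000450064000000000000000000002020000002000000000000000008090040000000000210001000c0048040404000020000004008000000000000000000000001002000340c00100000000000000000000000000000000000000000000000000000000
set_option linter.all false
open scoped Cfsg.Agent.FastGrp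

/-!
# MK, small rows: the groups with an involution centraliser `2^{1+4}_- : A₅` (helper83)

* `k0_A5`, `f0_A5` : the characters of odd degree of `A₅`;
* `lg_of_model`, `m0_of_model`, `sm_of_model`.
-/

set_option autoImplicit false
set_option maxHeartbeats 400000

namespace Cfsg.Agent.MK.S2

open Cfsg Subgroup Equiv Cfsg.Agent.MK.T Cfsg.Agent.MK.S8 Cfsg.Agent.TAB.Use

section five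

open Cfsg.Agent.H456.LD.HN.Tab

theorem enum_A5 : ∃ χ : ℕ → A5 → ℂ, Enum A5 5 (fun j => [1, 4, 5, 3, 3].getD j 0) χ := by
  obtain ⟨a, b, c, h1, h2, ha, hb, hc, -⟩ := tab
  have h3 : ∀ j < 5, (([one', four, a, b, c].getD j one' : IrrCharacter A5) : A5 → ℂ) 1 =
      (([1, 4, 5, 3, 3].getD j 0 : ℕ) : ℂ) := fun j hj => by
    interval_cases j
    exacts [Nat.cast_one.symm, four_one, ha, hb, hc]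
  refine ⟨fun j => ([one', four, a, b, c].getD j one' : IrrCharacter A5), fun j _ => Subtype.prop _,
    fun i hi j hj h => ?_, fun ψ hψ => ?_, h3⟩
  · have h4 := (h3 i hi).symm.trans ((congrFun h 1).trans (h3 j hj))
    rw [Nat.cast_inj] at h4
    have h5 : ∀ i < 5, ∀ j < 5, [1, 4, 5, 3, 3].getD i 0 = [1, 4, 5, 3, 3].getD j 0 →
      i = j ∨ (i = 3 ∧ j = 4) ∨ (i = 4 ∧ j = 3) := by decide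
    rcases h5 i hi j hj h4 with e | ⟨rfl, rfl⟩ | ⟨rfl, rfl⟩
    exacts [e, absurd (Subtype.ext h) h2, absurd (Subtype.ext h).symm h2]
  · rcases h1 ⟨ψ, hψ⟩ with e | e | e | e | e
    exacts [⟨0, by norm_num, congrArg Subtype.val e⟩, ⟨1, by norm_num, congrArg Subtype.val e⟩,
      ⟨2, by norm_num, congrArg Subtype.val e⟩, ⟨3, by norm_num, congrArg Subtype.val e⟩,
      ⟨4, by norm_num, congrArg Subtype.val e⟩]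

theorem k0_A5 : k0 A5 = 4 := by
  obtain ⟨χ, hE⟩ := enum_A5
  rw [k0_enum hE]
  decide

theorem cent_five : ∀ y : Perm (Fin 5), y * finRotate 5 = finRotate 5 * y ∨
    y * finRotate 5 ^ 2 = finRotate 5 ^ 2 * y → Perm.sign y = 1 := by decide +kernel

theorem f0_A5 {β : MulAut A5} (hβ : β ∉ (MulAut.conj : A5 →* MulAut A5).range) : f0 β = 2 := by
  obtain ⟨χ, hE⟩ := enum_A5
  obtain ⟨s, rfl⟩ := (S2119.result 5 (by norm_num) (by norm_num)).2 β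
  have h1 : ∀ j < 5, j ∉ [3, 4] → ∀ i < 5, [1, 4, 5, 3, 3].getD i 0 = [1, 4, 5, 3, 3].getD j 0 → i = j := by decide
  have h2 : ∀ j < 5, j ∉ [3, 4] → ∀ x, χ j (MulAut.conjNormal s x) = χ j x := fun j hj h => enum_fix hE _ hj (h1 j hj h)
  have h3 := fun i => S5.moved_of_count hE (MulAut.conjNormal s) _ h2 (L := [z5, z5 ^ 2]) (i := i)
    (List.pairwise_pair.2 fun h => by
      obtain ⟨g, hg⟩ := isConj_iff.1 h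
      exact z5_not_conj g hg)
    (fun a ha h => by
      obtain ⟨g, hg⟩ := isConj_iff.1 h
      have h4 : (g : Perm (Fin 5)) * s * a = a * (g * s) := by
        have h6 : (g : Perm (Fin 5)) * (s * a * s⁻¹) * (g : Perm (Fin 5))⁻¹ = a := congrArg Subtype.val hg
        rw [← mul_inv_eq_iff_eq_mul]
        exact Eq.trans (by group) h6
      have h5 : Perm.sign ((g : Perm (Fin 5)) * s) = 1 := cent_five _ (by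
        rcases List.mem_pair.1 ha with rfl | rfl
        exacts [.inl h4, .inr h4])
      rw [map_mul, Perm.mem_alternatingGroup.1 g.2, one_mul] at h5
      exact hβ ⟨⟨s, Perm.mem_alternatingGroup.2 h5⟩, MulEquiv.ext fun x => Subtype.ext rfl⟩) le_rfl
  rw [f0_enum hE (q := fun j => decide (j ∉ [3, 4])) fun j hj _ =>
    ⟨fun h => decide_eq_true fun e => h3 j e h, fun h => h2 j hj (of_decide_eq_true h)⟩]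
  decide

end five

open Cfsg.Agent.J2Type.Model Cfsg.Agent.J3Type.OneClass Cfsg.Agent.KFacts Cfsg.Agent.H72.ModelFacts
open Cfsg.Agent.OddHalf.D8.JTwo.Sheet Cfsg.Agent.ODD.Alt Cfsg.Agent.GAL.Spor

theorem fix_four : ∀ s s' : Fin 5 → ZMod 2, (∀ i, s ((t5 : Perm (Fin 5)) i) = s i) →
    (∀ i, s ((u5 : Perm (Fin 5)) i) = s i) → ∑ i, s i = 0 → (∀ i, s' ((t5 : Perm (Fin 5)) i) = s' i) →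
    (∀ i, s' ((u5 : Perm (Fin 5)) i) = s' i) → ∑ i, s' i = 0 → (∀ i, s i = 0) ∨ (∀ i, s' i = 0) ∨ ∀ i, s i = s' i := by
  decide +kernel

variable {S : Type} [Group S] [Finite S] {z : S} {Q : Subgroup (centralizer ({z} : Set S))}
  {v : Fin 5 → centralizer ({z} : Set S)} {ρ : centralizer ({z} : Set S) →* SP}

theorem lg_of_model (hc : Nat.card (centralizer ({z} : Set S)) = 1920) (M : IsModel Q (zc z) v ρ)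
    (h : SheetX z (centralizer ({z} : Set S)) (Q.map (centralizer ({z} : Set S)).subtype)) :
    Lg (Q.map (centralizer ({z} : Set S)).subtype) z (proj M) := by
  have := two_prime
  have hk : ∀ x, proj M x = 1 ↔ (x : S) ∈ Q.map (centralizer ({z} : Set S)).subtype := fun x => by
    rw [← MonoidHom.mem_ker, proj_ker, J3Sheet.coe_mem_iff]
  refine ⟨J3Sheet.large hc M, ?_, ?_, proj_surj M, hk⟩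
  · obtain ⟨a, ha, b, hb, h1⟩ := h.Rna
    exact ⟨a, ha, fun e => h1 (by rw [e, one_mul, mul_one]), fun e => h1 (by rw [e, h.cen b (h.RP hb)])⟩
  · obtain ⟨P, -, hP, -⟩ := h.syl
    have h1 : IsPGroup 2 (proj M).ker := by
      rw [proj_ker]
      exact IsPGroup.of_card (n := 5) (card_Q M)
    refine syl_of (D := ((Q5 : Subgroup A5).comap (proj M)).map (centralizer ({z} : Set S)).subtype)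
      (fun e => P.not_dvd_index (e.trans (index_dvd_of_le fun x hx => mem_centralizer_singleton_iff.2 (hP x hx))))
      ((Q5.isPGroup'.comap_of_ker_isPGroup _ h1).map _) (map_subtype_le _) ?_
    have key : ∀ x ∈ Q, Fx (((Q5 : Subgroup A5).comap (proj M)).map (centralizer ({z} : Set S)).subtype) z x →
        ∀ σ ∈ (Q5 : Subgroup A5), ∀ i, (ρ x).s ((σ : Perm (Fin 5)) i) = (ρ x).s i := fun x hx h2 σ hσ i => by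
      obtain ⟨c, rfl⟩ := proj_surj M σ
      have h3 : ρ (c * x * c⁻¹) = ρ x := J3Sheet.eqz_rho M (h2 c ⟨c, hσ, rfl⟩)
      rw [map_mul, map_mul, map_inv, mul_inv_eq_iff_eq_mul] at h3
      have h4 := congrFun (congrArg SP.s h3) i
      rw [mul_s, mul_s, (M.mem_Q x).1 hx, Perm.one_apply, add_comm, add_right_inj] at h4
      exact h4.symm
    have ht : t5 ∈ (Q5 : Subgroup A5) := mem_Q5.2 rfl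
    have hu : u5 ∈ (Q5 : Subgroup A5) := mem_Q5.2 (by decide +kernel)
    have h2 : ∀ x ∈ Q, (∀ i, (ρ x).s i = 0) → (x : S) = 1 ∨ (x : S) = z := fun x hx h3 =>
      ((M.ker x).1 (SP.ext ((M.mem_Q x).1 hx) (funext h3))).imp (congrArg Subtype.val) (congrArg Subtype.val)
    rintro _ ⟨x, hx, rfl⟩ _ ⟨y, hy, rfl⟩ h3 h4
    exact (fix_four _ _ (key x hx h3 _ ht) (key x hx h3 _ hu) ((M.range _).1 ⟨x, rfl⟩).2 (key y hy h4 _ ht)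
      (key y hy h4 _ hu) ((M.range _).1 ⟨y, rfl⟩).2).imp (h2 x hx) (Or.imp (h2 y hy) fun e => J3Sheet.eqz_of_rho M
        (SP.ext (((M.mem_Q x).1 hx).trans ((M.mem_Q y).1 hy).symm) (funext e)))

/-- **the McKay equality** -/
theorem m0_of_model (hc : Nat.card (centralizer ({z} : Set S)) = 1920) (M : IsModel Q (zc z) v ρ)
    (h : SheetX z (centralizer ({z} : Set S)) (Q.map (centralizer ({z} : Set S)).subtype)) (hk : k0 S = 8)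
    (ih : IH (Nat.card S)) : M0 S :=
  (lg_of_model hc M h).m0 ih (hk.trans (congrArg (2 * ·) k0_A5).symm)

/-- **the row** -/
theorem sm_of_model [IsSimpleGroup S] (hc : Nat.card (centralizer ({z} : Set S)) = 1920) (M : IsModel Q (zc z) v ρ)
    (h : SheetX z (centralizer ({z} : Set S)) (Q.map (centralizer ({z} : Set S)).subtype))
    (hi : (MulAut.conj : S →* MulAut S).range.index = 1 ∨ (MulAut.conj : S →* MulAut S).range.index = 2)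
    (hk : k0 S = 8) (hf : ∀ α : MulAut S, α ∉ (MulAut.conj : S →* MulAut S).range → f0 α = 4) : MK.S.SmS S :=
  (lg_of_model hc M h).sm_two (au_of_sheet h hi) hi (hk.trans (congrArg (2 * ·) k0_A5).symm)
    fun α _ hα hβ _ => (hf α hα).trans (congrArg (2 * ·) (f0_A5 hβ)).symm

end Cfsg.Agent.MK.S2
end
end
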